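import Mathlib
import Cfsg.Prelude.Def_Classical

set_option autoImplicit false

namespace Cfsg.Agent.Lib.helper6

open Matrix

theorem h6_card_fiber_count {α β : Type*} [Finite α] [Finite β] (φ : α → β) (c : ℕ)
    (h : ∀ b, Nat.card {a // φ a = b} = c) : Nat.card α = Nat.card β * c := by
  classical
  have := Fintype.ofFinite β
  rw [← Nat.card_congr (Equiv.sigmaFiberEquiv φ), Nat.card_sigma]
  simp only [h, Finset.sum_const, Finset.card_univ, smul_eq_mul, Nat.card_eq_fintype_card]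

section
variable {F : Type*} [Field F] [Fintype F]

/-- solutions of a nontrivial linear equation in `k` unknowns -/
theorem card_dot_eq {k : ℕ} (x : Fin k → F) (hx : x ≠ 0) (t : F) :
    Nat.card {y : Fin k → F // x ⬝ᵥ y = t} = Fintype.card F ^ (k - 1) := by
  classical
  obtain ⟨i, hi⟩ : ∃ i, x i ≠ 0 := by
    by_contra h
    push Not at h
    exact hx (funext h)
  have hk : 1 ≤ k := Fin.pos i
  have hfib : ∀ b : F, Nat.card {y : Fin k → F // x ⬝ᵥ y = b} =
      Nat.card {y : Fin k → F // x ⬝ᵥ y = t} := by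
    intro b
    set y₀ : Fin k → F := Pi.single i ((b - t) / x i) with hy₀
    have hy₀d : x ⬝ᵥ y₀ = b - t := by
      rw [hy₀, dotProduct_single]; field_simp
    apply Nat.card_congr
    exact { toFun := fun y => ⟨y.1 - y₀, by rw [dotProduct_sub, y.2, hy₀d]; ring⟩
            invFun := fun y => ⟨y.1 + y₀, by rw [dotProduct_add, y.2, hy₀d]; ring⟩
            left_inv := fun y => Subtype.ext (by simp)
            right_inv := fun y => Subtype.ext (by simp) }
  have h1 := h6_card_fiber_count (fun y : Fin k → F => x ⬝ᵥ y) _ hfib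
  rw [Nat.card_eq_fintype_card, Fintype.card_fun, Fintype.card_fin, Nat.card_eq_fintype_card] at h1
  have hq : 0 < Fintype.card F := Fintype.card_pos
  obtain ⟨k', rfl⟩ : ∃ k', k = k' + 1 := ⟨k - 1, by omega⟩
  rw [pow_succ, mul_comm] at h1
  simp only [Nat.add_sub_cancel]
  exact (Nat.eq_of_mul_eq_mul_left hq h1).symm

/-- zeros of `c(u) + x·y`. -/
theorem card_hyp_zero {U : Type*} [Fintype U] (c : U → F) (k : ℕ) :
    Nat.card {p : U × (Fin k → F) × (Fin k → F) // c p.1 + p.2.1 ⬝ᵥ p.2.2 = 0} =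
      Fintype.card U * ((Fintype.card F ^ k - 1) * Fintype.card F ^ (k - 1)) +
      Nat.card {u : U // c u = 0} * Fintype.card F ^ k := by
  classical
  have e : {p : U × (Fin k → F) × (Fin k → F) // c p.1 + p.2.1 ⬝ᵥ p.2.2 = 0} ≃
      Σ ux : U × (Fin k → F), {y : Fin k → F // ux.2 ⬝ᵥ y = -c ux.1} :=
    { toFun := fun p => ⟨(p.1.1, p.1.2.1), ⟨p.1.2.2, by linear_combination p.2⟩⟩
      invFun := fun s => ⟨(s.1.1, s.1.2, s.2.1), by
        have := s.2.2
        simp only
        linear_combination this⟩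
      left_inv := fun p => rfl
      right_inv := fun s => rfl }
  rw [Nat.card_congr e, Nat.card_sigma, Fintype.sum_prod_type]
  have hinner : ∀ u : U, ∑ x : Fin k → F, Nat.card {y : Fin k → F // x ⬝ᵥ y = -c u} =
      (Fintype.card F ^ k - 1) * Fintype.card F ^ (k - 1) +
        (if c u = 0 then Fintype.card F ^ k else 0) := by
    intro u
    rw [← Finset.sum_erase_add _ _ (Finset.mem_univ (0 : Fin k → F))]
    congr 1
    · rw [Finset.sum_congr rfl (fun x hx => card_dot_eq x (Finset.ne_of_mem_erase hx) _)]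
      rw [Finset.sum_const, Finset.card_erase_of_mem (Finset.mem_univ _), Finset.card_univ,
        Fintype.card_fun, Fintype.card_fin, smul_eq_mul]
    · by_cases hc : c u = 0
      · rw [if_pos hc, hc]
        have : Nat.card {y : Fin k → F // (0 : Fin k → F) ⬝ᵥ y = -0} = Nat.card (Fin k → F) := by
          apply Nat.card_congr
          exact { toFun := fun y => y.1
                  invFun := fun y => ⟨y, by simp⟩
                  left_inv := fun y => rfl
                  right_inv := fun y => rfl }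
        rw [this, Nat.card_eq_fintype_card, Fintype.card_fun, Fintype.card_fin]
      · rw [if_neg hc]
        have : IsEmpty {y : Fin k → F // (0 : Fin k → F) ⬝ᵥ y = -c u} := by
          constructor
          rintro ⟨y, hy⟩
          rw [zero_dotProduct] at hy
          exact hc (neg_eq_zero.mp hy.symm)
        exact Nat.card_of_isEmpty
  simp only [hinner]
  rw [Finset.sum_add_distrib, Finset.sum_const, Finset.card_univ, smul_eq_mul]
  congr 1
  rw [Finset.sum_ite, Finset.sum_const, Finset.sum_const_zero, add_zero, smul_eq_mul,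
    Nat.card_eq_fintype_card, Fintype.card_subtype]

end

section
variable {F : Type*} [Field F] [Fintype F]

theorem card_quadPlus_zero {q : ℕ} (hF : Fintype.card F = q) (m : ℕ) (hm : 1 ≤ m) :
    Nat.card {v : Fin m ⊕ Fin m → F // Cfsg.quadFormPlus m F v = 0} =
      q ^ (2 * m - 1) + q ^ m - q ^ (m - 1) := by
  classical
  have e : {v : Fin m ⊕ Fin m → F // Cfsg.quadFormPlus m F v = 0} ≃
      {p : Unit × (Fin m → F) × (Fin m → F) // (fun _ : Unit => (0 : F)) p.1 + p.2.1 ⬝ᵥ p.2.2 = 0} :=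
    { toFun := fun v => ⟨((), v.1 ∘ Sum.inl, v.1 ∘ Sum.inr), by
        have := v.2
        simp only [zero_add]
        exact this⟩
      invFun := fun p => ⟨Sum.elim p.1.2.1 p.1.2.2, by
        have := p.2
        simp only [zero_add] at this
        exact this⟩
      left_inv := by
        intro v
        apply Subtype.ext
        funext j
        cases j <;> rfl
      right_inv := by
        rintro ⟨⟨⟨⟩, x, y⟩, h⟩
        rfl }
  rw [Nat.card_congr e, card_hyp_zero (fun _ : Unit => (0 : F)) m, hF]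
  have h1 : Nat.card {u : Unit // (fun _ : Unit => (0 : F)) u = 0} = 1 := by
    have : Unique {u : Unit // (fun _ : Unit => (0 : F)) u = 0} :=
      ⟨⟨⟨(), rfl⟩⟩, fun u => Subtype.ext rfl⟩
    exact Nat.card_unique
  rw [h1, Fintype.card_unit, one_mul, one_mul]
  have hq : 0 < q := by rw [← hF]; exact Fintype.card_pos
  obtain ⟨m', rfl⟩ : ∃ m', m = m' + 1 := ⟨m - 1, by omega⟩
  obtain ⟨A, hA⟩ : ∃ A, q ^ (m' + 1) = A + 1 := ⟨q ^ (m' + 1) - 1, by
    have := Nat.pow_pos (n := m' + 1) hq; omega⟩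
  have e1 : q ^ (2 * (m' + 1) - 1) = q ^ (m' + 1) * q ^ m' := by
    rw [← pow_add]; congr 1; omega
  rw [e1, hA, Nat.add_sub_cancel, Nat.add_sub_cancel]
  have e2 : (A + 1) * q ^ m' = A * q ^ m' + q ^ m' := by ring
  rw [e2]
  omega

theorem card_quadOdd_zero {q : ℕ} (hF : Fintype.card F = q) (m : ℕ) :
    Nat.card {v : Unit ⊕ (Fin m ⊕ Fin m) → F // Cfsg.quadFormOdd m F v = 0} = q ^ (2 * m) := by
  classical
  have e : {v : Unit ⊕ (Fin m ⊕ Fin m) → F // Cfsg.quadFormOdd m F v = 0} ≃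
      {p : F × (Fin m → F) × (Fin m → F) // (fun x : F => x ^ 2) p.1 + p.2.1 ⬝ᵥ p.2.2 = 0} :=
    { toFun := fun v => ⟨(v.1 (.inl ()), (v.1 ∘ Sum.inr) ∘ Sum.inl, (v.1 ∘ Sum.inr) ∘ Sum.inr), v.2⟩
      invFun := fun p => ⟨Sum.elim (fun _ => p.1.1) (Sum.elim p.1.2.1 p.1.2.2), p.2⟩
      left_inv := by
        intro v
        apply Subtype.ext
        funext j
        rcases j with ⟨⟩ | j | j <;> rfl
      right_inv := by
        rintro ⟨⟨x, y, z⟩, h⟩
        rfl }
  rw [Nat.card_congr e, card_hyp_zero (fun x : F => x ^ 2) m, hF]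
  have h1 : Nat.card {u : F // (fun x : F => x ^ 2) u = 0} = 1 := by
    have : Unique {u : F // (fun x : F => x ^ 2) u = 0} :=
      ⟨⟨⟨0, by simp⟩⟩, fun u => Subtype.ext (by
        have := u.2
        exact (pow_eq_zero_iff two_ne_zero).mp this)⟩
    exact Nat.card_unique
  rw [h1, one_mul]
  have hq : 0 < q := by rw [← hF]; exact Fintype.card_pos
  rcases Nat.eq_zero_or_pos m with rfl | hm
  · simp
  · obtain ⟨m', rfl⟩ : ∃ m', m = m' + 1 := ⟨m - 1, by omega⟩
    obtain ⟨A, hA⟩ : ∃ A, q ^ (m' + 1) = A + 1 := ⟨q ^ (m' + 1) - 1, by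
      have := Nat.pow_pos (n := m' + 1) hq; omega⟩
    have e1 : q ^ (2 * (m' + 1)) = q ^ (m' + 1) * q ^ (m' + 1) := by
      rw [← pow_add]; congr 1; omega
    have e2 : q * ((q ^ (m' + 1) - 1) * q ^ (m' + 1 - 1)) = (q ^ (m' + 1) - 1) * q ^ (m' + 1) := by
      rw [Nat.add_sub_cancel, pow_succ]; ring
    rw [e1, e2, hA, Nat.add_sub_cancel]
    ring

theorem card_quadMinus_zero {q : ℕ} (hF : Fintype.card F = q) (m : ℕ) (hm : 1 ≤ m) (a b : F)
    (hab : ∀ z₁ z₂ : F, z₁ ^ 2 + a * z₁ * z₂ + b * z₂ ^ 2 = 0 → z₁ = 0 ∧ z₂ = 0) :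
    Nat.card {v : (Fin (m - 1) ⊕ Fin (m - 1)) ⊕ Fin 2 → F //
      Cfsg.quadFormMinus (m - 1) F a b v = 0} = q ^ (2 * m - 1) + q ^ (m - 1) - q ^ m := by
  classical
  have e : {v : (Fin (m - 1) ⊕ Fin (m - 1)) ⊕ Fin 2 → F // Cfsg.quadFormMinus (m - 1) F a b v = 0} ≃
      {p : (Fin 2 → F) × (Fin (m - 1) → F) × (Fin (m - 1) → F) //
        (fun z : Fin 2 → F => z 0 ^ 2 + a * z 0 * z 1 + b * z 1 ^ 2) p.1 + p.2.1 ⬝ᵥ p.2.2 = 0} :=
    { toFun := fun v => ⟨(v.1 ∘ Sum.inr, (v.1 ∘ Sum.inl) ∘ Sum.inl, (v.1 ∘ Sum.inl) ∘ Sum.inr), by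
        have := v.2
        rw [add_comm]
        exact this⟩
      invFun := fun p => ⟨Sum.elim (Sum.elim p.1.2.1 p.1.2.2) p.1.1, by
        have := p.2
        rw [add_comm] at this
        exact this⟩
      left_inv := by
        intro v
        apply Subtype.ext
        funext j
        rcases j with (j | j) | j <;> rfl
      right_inv := by
        rintro ⟨⟨x, y, z⟩, h⟩
        rfl }
  rw [Nat.card_congr e,
    card_hyp_zero (fun z : Fin 2 → F => z 0 ^ 2 + a * z 0 * z 1 + b * z 1 ^ 2) (m - 1), hF]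
  have h1 : Nat.card {u : Fin 2 → F //
      (fun z : Fin 2 → F => z 0 ^ 2 + a * z 0 * z 1 + b * z 1 ^ 2) u = 0} = 1 := by
    have : Unique {u : Fin 2 → F //
        (fun z : Fin 2 → F => z 0 ^ 2 + a * z 0 * z 1 + b * z 1 ^ 2) u = 0} :=
      ⟨⟨⟨0, by simp⟩⟩, fun u => Subtype.ext (by
        have h := hab _ _ u.2
        funext j
        fin_cases j
        · exact h.1
        · exact h.2)⟩
    exact Nat.card_unique
  rw [h1, one_mul, Fintype.card_fun, Fintype.card_fin, hF]
  have hq : 0 < q := by rw [← hF]; exact Fintype.card_pos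
  obtain ⟨m', rfl⟩ : ∃ m', m = m' + 1 := ⟨m - 1, by omega⟩
  simp only [Nat.add_sub_cancel]
  rcases Nat.eq_zero_or_pos m' with rfl | hm'
  · simp
  · obtain ⟨k, rfl⟩ : ∃ k, m' = k + 1 := ⟨m' - 1, by omega⟩
    obtain ⟨A, hA⟩ : ∃ A, q ^ (k + 1) = A + 1 := ⟨q ^ (k + 1) - 1, by
      have := Nat.pow_pos (n := k + 1) hq; omega⟩
    have e1 : q ^ (2 * (k + 1 + 1) - 1) = q ^ 2 * q ^ k * q ^ (k + 1) := by
      rw [← pow_add, ← pow_add]; congr 1; omega
    have e2 : q ^ (k + 1 + 1) = q ^ 2 * q ^ k := by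
      rw [← pow_add]; congr 1; omega
    rw [e1, e2, hA, Nat.add_sub_cancel, Nat.add_sub_cancel]
    have e3 : q ^ 2 * q ^ k * (A + 1) = q ^ 2 * (A * q ^ k) + q ^ 2 * q ^ k := by ring
    rw [e3]
    omega

end

end Cfsg.Agent.Lib.helper6
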