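import Mathlib
import Cfsg.Prelude.Def_Involutions
import Cfsg.Agent.Lib.helper6.Invol

set_option autoImplicit false

namespace Cfsg.Agent.Lib.helper6

section BSW

variable {G : Type*} [Group G] [Finite G]

/-- A nontrivial finite `2`-group has a central involution. -/
theorem exists_central_invol {P : Type*} [Group P] [Finite P] (hP : IsPGroup 2 P) [Nontrivial P] :
    ∃ c : P, c ∈ Subgroup.center P ∧ orderOf c = 2 := by
  have : Fact (Nat.Prime 2) := ⟨Nat.prime_two⟩
  haveI := hP.center_nontrivial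
  have hZ : IsPGroup 2 (Subgroup.center P) := hP.to_subgroup _
  obtain ⟨n, hn, hcard⟩ := hZ.nontrivial_iff_card.mp inferInstance
  have hdvd : 2 ∣ Nat.card (Subgroup.center P) := by
    rw [hcard]; exact dvd_pow_self 2 hn.ne'
  obtain ⟨c, hc⟩ := exists_prime_orderOf_dvd_card' 2 hdvd
  refine ⟨c, c.2, ?_⟩
  rw [Subgroup.orderOf_coe]; exact hc

/-- The standing hypotheses of the Brauer–Suzuki–Wall situation: the Sylow 2-subgroup `T` is
elementary abelian, and equals the centraliser of each of its involutions. -/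
theorem bsw_basic (T : Sylow 2 G) (hnc : ¬ IsCyclic (T : Subgroup G))
    (hC : ∀ t : G, orderOf t = 2 → IsMulCommutative (Subgroup.centralizer ({t} : Set G)) ∧
      ∀ c ∈ Subgroup.centralizer ({t} : Set G), c ^ 2 = 1) :
    (∀ a ∈ (T : Subgroup G), a * a = 1) ∧
      (∀ a ∈ (T : Subgroup G), ∀ b ∈ (T : Subgroup G), a * b = b * a) ∧
      (∀ t ∈ (T : Subgroup G), t ≠ 1 → Subgroup.centralizer ({t} : Set G) = T) ∧
      ∃ t ∈ (T : Subgroup G), t ≠ 1 := by
  have : Fact (Nat.Prime 2) := ⟨Nat.prime_two⟩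
  have hTne : (T : Subgroup G) ≠ ⊥ := by
    intro h
    apply hnc
    rw [h]
    infer_instance
  haveI : Nontrivial (T : Subgroup G) := (Subgroup.nontrivial_iff_ne_bot _).mpr hTne
  obtain ⟨c, hcZ, hc2⟩ := exists_central_invol T.2
  have hc2' : orderOf (c : G) = 2 := by rw [Subgroup.orderOf_coe]; exact hc2
  have hpg : ∀ t : G, orderOf t = 2 → IsPGroup 2 (Subgroup.centralizer ({t} : Set G)) := by
    intro t ht g
    refine ⟨1, ?_⟩
    apply Subtype.ext
    have := (hC t ht).2 g g.2
    simpa using this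
  have hTle : (T : Subgroup G) ≤ Subgroup.centralizer ({(c : G)} : Set G) := by
    intro y hy
    rw [Subgroup.mem_centralizer_iff]
    intro x hx
    rw [Set.mem_singleton_iff] at hx
    subst hx
    have := Subgroup.mem_center_iff.mp hcZ ⟨y, hy⟩
    have h2 := congrArg (fun z : (T : Subgroup G) => (z : G)) this
    simpa using h2.symm
  have hCT : Subgroup.centralizer ({(c : G)} : Set G) = T := T.is_maximal' (hpg _ hc2') hTle
  have hsq : ∀ a ∈ (T : Subgroup G), a * a = 1 := by
    intro a ha
    have := (hC _ hc2').2 a (by rw [hCT]; exact ha)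
    rw [sq] at this
    exact this
  have hcomm : ∀ a ∈ (T : Subgroup G), ∀ b ∈ (T : Subgroup G), a * b = b * a := by
    intro a ha b hb
    have hcm := (hC _ hc2').1
    have ha' : a ∈ Subgroup.centralizer ({(c : G)} : Set G) := by rw [hCT]; exact ha
    have hb' : b ∈ Subgroup.centralizer ({(c : G)} : Set G) := by rw [hCT]; exact hb
    have := mul_comm' (⟨a, ha'⟩ : Subgroup.centralizer ({(c : G)} : Set G)) ⟨b, hb'⟩
    exact congrArg Subtype.val this
  refine ⟨hsq, hcomm, ?_, ⟨(c : G), c.2, ne_one_of_orderOf_two hc2'⟩⟩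
  intro t ht ht1
  have ht2 : orderOf t = 2 := orderOf_two_of_mul_self (hsq t ht) ht1
  apply T.is_maximal' (hpg _ ht2)
  intro y hy
  rw [Subgroup.mem_centralizer_iff]
  intro x hx
  rw [Set.mem_singleton_iff] at hx
  subst hx
  exact hcomm x ht y hy

/-- An involution normalising a Sylow 2-subgroup lies in it. -/
theorem mem_sylow_of_mem_normalizer (T : Sylow 2 G) {x : G}
    (hx : x ∈ Subgroup.normalizer ((T : Subgroup G) : Set G)) (hx2 : orderOf x = 2) :
    x ∈ (T : Subgroup G) := by
  have : Fact (Nat.Prime 2) := ⟨Nat.prime_two⟩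
  have hzp : IsPGroup 2 (Subgroup.zpowers x) := by
    rw [IsPGroup.iff_card]
    exact ⟨1, by rw [Nat.card_zpowers, hx2, pow_one]⟩
  have hle : Subgroup.zpowers x ≤ Subgroup.normalizer ((T : Subgroup G) : Set G) := by
    rw [Subgroup.zpowers_le]; exact hx
  have hsup : IsPGroup 2 ((T : Subgroup G) ⊔ Subgroup.zpowers x : Subgroup G) :=
    IsPGroup.to_sup_of_normal_left' T.2 hzp hle
  have := T.is_maximal' hsup le_sup_left
  have hx' : x ∈ (T : Subgroup G) ⊔ Subgroup.zpowers x :=
    Subgroup.mem_sup_right (Subgroup.mem_zpowers x)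
  rw [this] at hx'
  exact hx'

theorem bsw_strongly_embedded (T : Sylow 2 G) (hnc : ¬ IsCyclic (T : Subgroup G))
    (hnn : ¬ (T : Subgroup G).Normal)
    (hC : ∀ t : G, orderOf t = 2 → IsMulCommutative (Subgroup.centralizer ({t} : Set G)) ∧
      ∀ c ∈ Subgroup.centralizer ({t} : Set G), c ^ 2 = 1) :
    Cfsg.IsStronglyEmbedded (Subgroup.normalizer ((T : Subgroup G) : Set G)) := by
  have : Fact (Nat.Prime 2) := ⟨Nat.prime_two⟩
  obtain ⟨hsq, hcomm, hcen, t₀, ht₀, ht₀1⟩ := bsw_basic T hnc hC
  have ht₀2 : orderOf t₀ = 2 := orderOf_two_of_mul_self (hsq t₀ ht₀) ht₀1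
  refine ⟨fun h => hnn (Subgroup.normalizer_eq_top_iff.mp h), ?_, ?_⟩
  · have h1 : t₀ ∈ Subgroup.normalizer ((T : Subgroup G) : Set G) := Subgroup.le_normalizer ht₀
    have h2 : orderOf (⟨t₀, h1⟩ : Subgroup.normalizer ((T : Subgroup G) : Set G)) = 2 := by
      rw [← Subgroup.orderOf_coe]; exact ht₀2
    have h3 := orderOf_dvd_natCard (⟨t₀, h1⟩ : Subgroup.normalizer ((T : Subgroup G) : Set G))
    rw [h2] at h3
    exact even_iff_two_dvd.mpr h3
  · intro g hg
    rw [← Nat.not_even_iff_odd]
    intro heven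
    rw [even_iff_two_dvd] at heven
    obtain ⟨x, hx⟩ := exists_prime_orderOf_dvd_card' 2 heven
    have hx2 : orderOf (x : G) = 2 := by rw [Subgroup.orderOf_coe]; exact hx
    have hxmem := x.2
    rw [Subgroup.mem_inf, Subgroup.mem_map] at hxmem
    obtain ⟨hxN, y, hyN, hyx⟩ := hxmem
    simp only [MulEquiv.coe_toMonoidHom, MulAut.conj_apply] at hyx
    have hxT : (x : G) ∈ (T : Subgroup G) := mem_sylow_of_mem_normalizer T hxN hx2
    have hy2 : orderOf y = 2 := by
      have : orderOf (g * y * g⁻¹) = orderOf y := (MulAut.conj g).orderOf_eq y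
      rw [← this, hyx]; exact hx2
    have hyT : y ∈ (T : Subgroup G) := mem_sylow_of_mem_normalizer T hyN hy2
    have hx1 : (x : G) ≠ 1 := ne_one_of_orderOf_two hx2
    have hy1 : y ≠ 1 := ne_one_of_orderOf_two hy2
    apply hg
    rw [Subgroup.mem_normalizer_iff]
    intro h
    constructor
    · intro hh
      have : g * h * g⁻¹ ∈ Subgroup.centralizer ({(x : G)} : Set G) := by
        rw [Subgroup.mem_centralizer_iff]
        intro z hz
        rw [Set.mem_singleton_iff] at hz
        subst hz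
        rw [← hyx]
        have := hcomm y hyT h hh
        calc g * y * g⁻¹ * (g * h * g⁻¹) = g * (y * h) * g⁻¹ := by group
          _ = g * (h * y) * g⁻¹ := by rw [this]
          _ = g * h * g⁻¹ * (g * y * g⁻¹) := by group
      rw [hcen _ hxT hx1] at this
      exact this
    · intro hh
      have : h ∈ Subgroup.centralizer ({y} : Set G) := by
        rw [Subgroup.mem_centralizer_iff]
        intro z hz
        rw [Set.mem_singleton_iff] at hz
        subst hz
        have := hcomm (x : G) hxT _ hh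
        rw [← hyx] at this
        calc z * h = g⁻¹ * (g * z * g⁻¹ * (g * h * g⁻¹)) * g := by group
          _ = g⁻¹ * (g * h * g⁻¹ * (g * z * g⁻¹)) * g := by rw [this]
          _ = h * z := by group
      rw [hcen _ hyT hy1] at this
      exact this

end BSW

end Cfsg.Agent.Lib.helper6
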