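import Mathlib
import Cfsg.Prelude.Def_Involutions
import Cfsg.Agent.Lib.helper6.Invol
import Cfsg.Agent.Lib.helper6.BSW
import Cfsg.Agent.S1225

set_option autoImplicit false

namespace Cfsg.Agent.Lib.helper6

section BSW2

variable {G : Type*} [Group G]

/-- An involution acting without nontrivial fixed points on a finite subgroup inverts it. -/
theorem inverts_of_fixed_point_free (D : Subgroup G) [Finite D] {u : G} (hu : u * u = 1)
    (hn : ∀ d ∈ D, u * d * u⁻¹ ∈ D) (hfp : ∀ d ∈ D, u * d = d * u → d = 1) :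
    ∀ d ∈ D, u * d * u⁻¹ = d⁻¹ := by
  have hui : u⁻¹ = u := inv_eq_self_of_mul_self hu
  let f : D → D := fun d => ⟨(d : G)⁻¹ * (u * d * u⁻¹), D.mul_mem (D.inv_mem d.2) (hn d d.2)⟩
  have hinj : Function.Injective f := by
    intro d e hde
    have h1 : (d : G)⁻¹ * (u * d * u⁻¹) = (e : G)⁻¹ * (u * e * u⁻¹) := congrArg Subtype.val hde
    have h3 : (d : G)⁻¹ * u * d = (e : G)⁻¹ * u * e := by
      have := congrArg (· * u) h1
      simpa [mul_assoc] using this
    have h2 : u * ((e : G) * (d : G)⁻¹) = ((e : G) * (d : G)⁻¹) * u := by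
      calc u * ((e : G) * (d : G)⁻¹) = e * ((e : G)⁻¹ * u * e) * (d : G)⁻¹ := by group
        _ = e * ((d : G)⁻¹ * u * d) * (d : G)⁻¹ := by rw [h3]
        _ = ((e : G) * (d : G)⁻¹) * u := by group
    have h4 := hfp _ (D.mul_mem e.2 (D.inv_mem d.2)) h2
    apply Subtype.ext
    exact (mul_inv_eq_one.mp h4).symm
  have hsurj : Function.Surjective f := Finite.surjective_of_injective hinj
  intro d hd
  obtain ⟨e, he⟩ := hsurj ⟨d, hd⟩
  have he' : (e : G)⁻¹ * (u * e * u⁻¹) = d := congrArg Subtype.val he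
  rw [← he', hui]
  simp only [mul_inv_rev, inv_inv, hui, mul_assoc]
  rw [hu, mul_one]

theorem bsw_structure_aux [Finite G] (H T : Subgroup G) (hTH : T ≤ H)
    (hnorm : ∀ h ∈ H, ∀ t ∈ T, h * t * h⁻¹ ∈ T) (hH : Cfsg.IsStronglyEmbedded H)
    (hsq : ∀ a ∈ T, a * a = 1) (hcen : ∀ t ∈ T, t ≠ 1 → ∀ c : G, c * t = t * c → c ∈ T)
    (t₀ : G) (ht₀ : t₀ ∈ T) (ht₀1 : t₀ ≠ 1) (u : G) (hu : orderOf u = 2) (huH : u ∉ H)
    (hC2 : ∀ c : G, u * c = c * u → c * c = 1) :
    (∀ d ∈ H ⊓ H.map (MulAut.conj u).toMonoidHom, u * d * u⁻¹ = d⁻¹) ∧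
      Nat.card H = Nat.card T * (Nat.card T - 1) ∧
      Subgroup.IsComplement' ((H ⊓ H.map (MulAut.conj u).toMonoidHom).subgroupOf H)
        (T.subgroupOf H) := by
  have hu1 := mul_self_of_orderOf_two hu
  have hui : u⁻¹ = u := inv_eq_self_of_mul_self hu1
  have hDodd := hH.2.2 u huH
  have hmemD : ∀ d : G, d ∈ H ⊓ H.map (MulAut.conj u).toMonoidHom ↔ d ∈ H ∧ u * d * u⁻¹ ∈ H := by
    intro d
    rw [Subgroup.mem_inf, Subgroup.mem_map]
    constructor
    · rintro ⟨h1, h, hh, rfl⟩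
      refine ⟨h1, ?_⟩
      simp only [MulEquiv.coe_toMonoidHom, MulAut.conj_apply]
      have : u * (u * h * u⁻¹) * u⁻¹ = h := by
        rw [hui]; simp only [mul_assoc, hu1, mul_one]; rw [← mul_assoc, hu1, one_mul]
      rw [this]; exact hh
    · rintro ⟨h1, h2⟩
      refine ⟨h1, u * d * u⁻¹, h2, ?_⟩
      simp only [MulEquiv.coe_toMonoidHom, MulAut.conj_apply]
      rw [hui]
      simp only [mul_assoc, hu1, mul_one]; rw [← mul_assoc, hu1, one_mul]
  generalize H ⊓ H.map (MulAut.conj u).toMonoidHom = D at hDodd hmemD ⊢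
  have hDH : D ≤ H := fun d hd => ((hmemD d).mp hd).1
  have hD1 : ∀ d ∈ D, d * d = 1 → d = 1 := by
    intro d hd hdd
    have h1 : orderOf (⟨d, hd⟩ : D) ∣ Nat.card D := orderOf_dvd_natCard _
    rw [Subgroup.orderOf_mk] at h1
    have h2 : orderOf d ∣ 2 := orderOf_dvd_of_pow_eq_one (by rw [sq]; exact hdd)
    have h3 : Odd (orderOf d) := Odd.of_dvd_nat hDodd h1
    have h4 : orderOf d = 1 := by
      rcases (Nat.dvd_prime Nat.prime_two).mp h2 with h | h
      · exact h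
      · rw [h] at h3; exact absurd h3 (by decide)
    exact orderOf_eq_one_iff.mp h4
  have hn : ∀ d ∈ D, u * d * u⁻¹ ∈ D := by
    intro d hd
    rw [hmemD] at hd ⊢
    refine ⟨hd.2, ?_⟩
    have : u * (u * d * u⁻¹) * u⁻¹ = d := by
      rw [hui]; simp only [mul_assoc, hu1, mul_one]; rw [← mul_assoc, hu1, one_mul]
    rw [this]; exact hd.1
  have hinv : ∀ d ∈ D, u * d * u⁻¹ = d⁻¹ :=
    inverts_of_fixed_point_free D hu1 hn (fun d hd hc => hD1 d hd (hC2 d hc))
  have hDT : ∀ d ∈ D, d ∈ T → d = 1 := fun d hd hdT => hD1 d hd (hsq d hdT)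
  have ht₀2 : orderOf t₀ = 2 := orderOf_two_of_mul_self (hsq t₀ ht₀) ht₀1
  have hsurj : ∀ t ∈ T, t ≠ 1 → ∃ d ∈ D, d * t₀ * d⁻¹ = t := by
    intro t ht ht1
    have ht2 : orderOf t = 2 := orderOf_two_of_mul_self (hsq t ht) ht1
    obtain ⟨d, hd, hdc⟩ := (Cfsg.Agent.S1225.result H hH u hu huH t₀ t ht₀2 (hTH ht₀) ht2 (hTH ht)).1
    refine ⟨d, ?_, hdc⟩
    rw [hmemD]
    rw [Subgroup.mem_inf, Subgroup.mem_map] at hd
    obtain ⟨h1, h, hh, rfl⟩ := hd
    refine ⟨h1, ?_⟩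
    simp only [MulEquiv.coe_toMonoidHom, MulAut.conj_apply]
    have : u * (u * h * u⁻¹) * u⁻¹ = h := by
      rw [hui]; simp only [mul_assoc, hu1, mul_one]; rw [← mul_assoc, hu1, one_mul]
    rw [this]; exact hh
  have hconj_inj : ∀ d ∈ D, ∀ e ∈ D, d * t₀ * d⁻¹ = e * t₀ * e⁻¹ → d = e := by
    intro d hd e he hde
    have h1 : e⁻¹ * d ∈ T := by
      apply hcen t₀ ht₀ ht₀1
      calc e⁻¹ * d * t₀ = e⁻¹ * (d * t₀ * d⁻¹) * d := by group
        _ = e⁻¹ * (e * t₀ * e⁻¹) * d := by rw [hde]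
        _ = t₀ * (e⁻¹ * d) := by group
    have h2 := hDT _ (D.mul_mem (D.inv_mem he) hd) h1
    exact (inv_mul_eq_one.mp h2).symm
  have hcompl : Subgroup.IsComplement' (D.subgroupOf H) (T.subgroupOf H) := by
    apply Subgroup.isComplement'_of_disjoint_and_mul_eq_univ
    · rw [Subgroup.disjoint_def]
      intro x hx1 hx2
      rw [Subgroup.mem_subgroupOf] at hx1 hx2
      exact Subtype.ext (hDT _ hx1 hx2)
    · rw [Set.eq_univ_iff_forall]
      intro h
      have hc1 : (h : G) * t₀ * (h : G)⁻¹ ∈ T := hnorm h h.2 t₀ ht₀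
      have hc2 : (h : G) * t₀ * (h : G)⁻¹ ≠ 1 := by
        intro h0
        exact ht₀1 (conj_eq_one_iff.mp h0)
      obtain ⟨d, hd, hdc⟩ := hsurj _ hc1 hc2
      have hdh : d⁻¹ * h ∈ T := by
        apply hcen t₀ ht₀ ht₀1
        calc d⁻¹ * (h : G) * t₀ = d⁻¹ * ((h : G) * t₀ * (h : G)⁻¹) * d * (d⁻¹ * h) := by group
          _ = d⁻¹ * (d * t₀ * d⁻¹) * d * (d⁻¹ * h) := by rw [hdc]
          _ = t₀ * (d⁻¹ * h) := by group
      rw [Set.mem_mul]
      refine ⟨⟨d, hDH hd⟩, ?_, ⟨d⁻¹ * h, H.mul_mem (H.inv_mem (hDH hd)) h.2⟩, ?_, ?_⟩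
      · exact Subgroup.mem_subgroupOf.mpr hd
      · exact Subgroup.mem_subgroupOf.mpr hdh
      · apply Subtype.ext; simp
  refine ⟨hinv, ?_, hcompl⟩
  have hcard := hcompl.card_mul_card
  have e1 : Nat.card (D.subgroupOf H) = Nat.card D :=
    Nat.card_congr (Subgroup.subgroupOfEquivOfLe hDH).toEquiv
  have e2 : Nat.card (T.subgroupOf H) = Nat.card T :=
    Nat.card_congr (Subgroup.subgroupOfEquivOfLe hTH).toEquiv
  have e3 : Nat.card D = Nat.card T - 1 := by
    have hT : Nat.card T = Nat.card {t : T // t ≠ 1} + 1 := by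
      classical
      rw [← Finite.card_option, Nat.card_congr (Equiv.optionSubtypeNe (1 : T))]
    have hne : ∀ d : D, (⟨(d : G) * t₀ * (d : G)⁻¹, hnorm d (hDH d.2) t₀ ht₀⟩ : T) ≠ 1 := by
      intro d h0
      have h1 : (d : G) * t₀ * (d : G)⁻¹ = 1 := congrArg Subtype.val h0
      exact ht₀1 (conj_eq_one_iff.mp h1)
    have hbij : Nat.card D = Nat.card {t : T // t ≠ 1} := by
      apply Nat.card_eq_of_bijective
        (fun d : D => (⟨⟨(d : G) * t₀ * (d : G)⁻¹, hnorm d (hDH d.2) t₀ ht₀⟩, hne d⟩ :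
          {t : T // t ≠ 1}))
      constructor
      · intro d e hde
        have h1 : (d : G) * t₀ * (d : G)⁻¹ = (e : G) * t₀ * (e : G)⁻¹ :=
          congrArg (fun x : {t : T // t ≠ 1} => ((x : T) : G)) hde
        exact Subtype.ext (hconj_inj d d.2 e e.2 h1)
      · rintro ⟨⟨t, ht⟩, ht1⟩
        have ht1' : t ≠ 1 := fun h => ht1 (Subtype.ext h)
        obtain ⟨d, hd, hdc⟩ := hsurj t ht ht1'
        exact ⟨⟨d, hd⟩, Subtype.ext (Subtype.ext hdc)⟩
    omega
  rw [← hcard, e1, e2, e3, mul_comm]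

theorem bsw_structure [Finite G] (T : Sylow 2 G) (hnc : ¬ IsCyclic (T : Subgroup G))
    (hnn : ¬ (T : Subgroup G).Normal)
    (hC : ∀ t : G, orderOf t = 2 → IsMulCommutative (Subgroup.centralizer ({t} : Set G)) ∧
      ∀ c ∈ Subgroup.centralizer ({t} : Set G), c ^ 2 = 1)
    (u : G) (hu : orderOf u = 2) (huH : u ∉ Subgroup.normalizer ((T : Subgroup G) : Set G)) :
    (∀ d ∈ Subgroup.normalizer ((T : Subgroup G) : Set G) ⊓
        (Subgroup.normalizer ((T : Subgroup G) : Set G)).map (MulAut.conj u).toMonoidHom,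
        u * d * u⁻¹ = d⁻¹) ∧
      Nat.card (Subgroup.normalizer ((T : Subgroup G) : Set G)) = Nat.card T * (Nat.card T - 1) ∧
      Subgroup.IsComplement' ((Subgroup.normalizer ((T : Subgroup G) : Set G) ⊓
        (Subgroup.normalizer ((T : Subgroup G) : Set G)).map (MulAut.conj u).toMonoidHom).subgroupOf
          (Subgroup.normalizer ((T : Subgroup G) : Set G)))
        ((T : Subgroup G).subgroupOf (Subgroup.normalizer ((T : Subgroup G) : Set G))) := by
  have hH := bsw_strongly_embedded T hnc hnn hC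
  obtain ⟨hsq, hcomm, hcen, t₀, ht₀, ht₀1⟩ := bsw_basic T hnc hC
  refine bsw_structure_aux _ (T : Subgroup G) Subgroup.le_normalizer ?_ hH hsq ?_ t₀ ht₀ ht₀1 u hu huH ?_
  · intro h hh t ht
    exact (Subgroup.mem_normalizer_iff.mp hh t).mp ht
  · intro t ht ht1 c hc
    rw [← hcen t ht ht1, Subgroup.mem_centralizer_iff]
    intro x hx
    rw [Set.mem_singleton_iff] at hx
    subst hx
    exact hc.symm
  · intro c hc
    have h1 : c ∈ Subgroup.centralizer ({u} : Set G) := by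
      rw [Subgroup.mem_centralizer_iff]
      intro x hx
      rw [Set.mem_singleton_iff] at hx
      subst hx
      exact hc
    have := (hC u hu).2 c h1
    rw [sq] at this
    exact this

end BSW2

end Cfsg.Agent.Lib.helper6
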