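import Mathlib
import Cfsg.Prelude.Def_Involutions
import Cfsg.Agent.Lib.helper6.Invol
import Cfsg.Agent.Lib.helper6.BSW
import Cfsg.Agent.Lib.helper6.BSW2
import Cfsg.Agent.Lib.helper6.SE
import Cfsg.Agent.S1225

set_option autoImplicit false

namespace Cfsg.Agent.Lib.helper6

section BSW3

variable {G : Type*} [Group G]

/-- `H ∩ iHi⁻¹`. -/
abbrev interD (H : Subgroup G) (i : G) : Subgroup G := H ⊓ H.map (MulAut.conj i).toMonoidHom

theorem mem_interD {H : Subgroup G} {i : G} (hi : i * i = 1) (d : G) :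
    d ∈ interD H i ↔ d ∈ H ∧ i * d * i⁻¹ ∈ H := by
  have hii : i⁻¹ = i := inv_eq_self_of_mul_self hi
  rw [Subgroup.mem_inf, Subgroup.mem_map]
  constructor
  · rintro ⟨h1, h, hh, rfl⟩
    refine ⟨h1, ?_⟩
    simp only [MulEquiv.coe_toMonoidHom, MulAut.conj_apply]
    have : i * (i * h * i⁻¹) * i⁻¹ = h := by
      rw [hii]; simp only [mul_assoc, hi, mul_one]; rw [← mul_assoc, hi, one_mul]
    rw [this]; exact hh
  · rintro ⟨h1, h2⟩
    refine ⟨h1, i * d * i⁻¹, h2, ?_⟩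
    simp only [MulEquiv.coe_toMonoidHom, MulAut.conj_apply]
    rw [hii]
    simp only [mul_assoc, hi, mul_one]; rw [← mul_assoc, hi, one_mul]

theorem mem_interD' {H : Subgroup G} (i : G) (d : G) :
    d ∈ interD H i ↔ d ∈ H ∧ i⁻¹ * d * i ∈ H := by
  rw [Subgroup.mem_inf, Subgroup.mem_map]
  constructor
  · rintro ⟨h1, h, hh, rfl⟩
    refine ⟨h1, ?_⟩
    simp only [MulEquiv.coe_toMonoidHom, MulAut.conj_apply]
    have : i⁻¹ * (i * h * i⁻¹) * i = h := by group
    rw [this]; exact hh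
  · rintro ⟨h1, h2⟩
    refine ⟨h1, i⁻¹ * d * i, h2, ?_⟩
    simp only [MulEquiv.coe_toMonoidHom, MulAut.conj_apply]
    group

theorem interD_conj_mem {H : Subgroup G} {i : G} (hi : i * i = 1) {d : G} (hd : d ∈ interD H i) :
    i * d * i⁻¹ ∈ interD H i := by
  have hii : i⁻¹ = i := inv_eq_self_of_mul_self hi
  rw [mem_interD hi] at hd ⊢
  refine ⟨hd.2, ?_⟩
  have : i * (i * d * i⁻¹) * i⁻¹ = d := by
    rw [hii]; simp only [mul_assoc, hi, mul_one]; rw [← mul_assoc, hi, one_mul]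
  rw [this]; exact hd.1

/-- The standing hypotheses of the Brauer–Suzuki–Wall situation, in terms of `H = N_G(T)`. -/
structure BSWHyp (H T : Subgroup G) : Prop where
  se : Cfsg.IsStronglyEmbedded H
  le : T ≤ H
  norm : ∀ h ∈ H, ∀ t ∈ T, h * t * h⁻¹ ∈ T
  sq : ∀ a ∈ T, a * a = 1
  comm : ∀ a ∈ T, ∀ b ∈ T, a * b = b * a
  cen : ∀ t ∈ T, t ≠ 1 → ∀ c : G, c * t = t * c → c ∈ T
  invol_mem : ∀ t ∈ H, orderOf t = 2 → t ∈ T
  c2 : ∀ i : G, orderOf i = 2 → ∀ c : G, i * c = c * i → c * c = 1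
  two : ∃ t₁ ∈ T, ∃ t₂ ∈ T, t₁ ≠ 1 ∧ t₂ ≠ 1 ∧ t₁ ≠ t₂

theorem bsw_hyp [Finite G] (T : Sylow 2 G) (hnc : ¬ IsCyclic (T : Subgroup G))
    (hnn : ¬ (T : Subgroup G).Normal)
    (hC : ∀ t : G, orderOf t = 2 → IsMulCommutative (Subgroup.centralizer ({t} : Set G)) ∧
      ∀ c ∈ Subgroup.centralizer ({t} : Set G), c ^ 2 = 1) :
    BSWHyp (Subgroup.normalizer ((T : Subgroup G) : Set G)) (T : Subgroup G) := by
  have hH := bsw_strongly_embedded T hnc hnn hC
  obtain ⟨hsq, hcomm, hcen, t₀, ht₀, ht₀1⟩ := bsw_basic T hnc hC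
  refine ⟨hH, Subgroup.le_normalizer, ?_, hsq, hcomm, ?_, ?_, ?_, ?_⟩
  · intro h hh t ht
    exact (Subgroup.mem_normalizer_iff.mp hh t).mp ht
  · intro t ht ht1 c hc
    rw [← hcen t ht ht1, Subgroup.mem_centralizer_iff]
    intro x hx
    rw [Set.mem_singleton_iff] at hx
    subst hx
    exact hc.symm
  · intro t ht ht2
    exact mem_sylow_of_mem_normalizer T ht ht2
  · intro i hi c hc
    have h1 : c ∈ Subgroup.centralizer ({i} : Set G) := by
      rw [Subgroup.mem_centralizer_iff]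
      intro x hx
      rw [Set.mem_singleton_iff] at hx
      subst hx
      exact hc
    have := (hC i hi).2 c h1
    rw [sq] at this
    exact this
  · by_contra hcon
    apply hnc
    refine ⟨⟨⟨t₀, ht₀⟩, ?_⟩⟩
    intro a
    by_cases ha : (a : G) = 1
    · refine ⟨0, ?_⟩
      apply Subtype.ext
      simp [ha]
    · by_cases ha2 : (a : G) = t₀
      · refine ⟨1, ?_⟩
        apply Subtype.ext
        simp [ha2]
      · exact absurd ⟨t₀, ht₀, (a : G), a.2, ht₀1, ha, fun h => ha2 h.symm⟩ hcon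

variable [Finite G]

/-- Structure of `H ∩ iHi⁻¹` for an involution `i ∉ H`. -/
theorem BSWHyp.invol {H T : Subgroup G} (h : BSWHyp H T) {i : G} (hi : orderOf i = 2)
    (hiH : i ∉ H) :
    (∀ d ∈ interD H i, i * d * i⁻¹ = d⁻¹) ∧
      (∀ x ∈ H, ∃ d ∈ interD H i, ∃ t ∈ T, x = d * t) ∧
      (∀ d ∈ interD H i, d * d = 1 → d = 1) ∧
      (∀ t₀ ∈ T, t₀ ≠ 1 → ∀ t ∈ T, t ≠ 1 → ∃ d ∈ interD H i, d * t₀ * d⁻¹ = t) := by
  obtain ⟨t₁, ht₁, -, -, ht₁1, -, -⟩ := h.two
  obtain ⟨hinv, -, hcompl⟩ :=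
    bsw_structure_aux H T h.le h.norm h.se h.sq h.cen t₁ ht₁ ht₁1 i hi hiH (h.c2 i hi)
  have hDodd := h.se.2.2 i hiH
  refine ⟨hinv, ?_, ?_, ?_⟩
  · intro x hx
    obtain ⟨p, hp, -⟩ := (Subgroup.isComplement'_def.mp hcompl).existsUnique ⟨x, hx⟩
    refine ⟨((p.1 : H) : G), Subgroup.mem_subgroupOf.mp p.1.2, ((p.2 : H) : G),
      Subgroup.mem_subgroupOf.mp p.2.2, ?_⟩
    have := congrArg (fun y : H => (y : G)) hp
    simpa using this.symm
  · intro d hd hdd
    have h1 : orderOf (⟨d, hd⟩ : interD H i) ∣ Nat.card (interD H i) := orderOf_dvd_natCard _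
    rw [Subgroup.orderOf_mk] at h1
    have h2 : orderOf d ∣ 2 := orderOf_dvd_of_pow_eq_one (by rw [pow_two]; exact hdd)
    have h3 : Odd (orderOf d) := Odd.of_dvd_nat hDodd h1
    have h4 : orderOf d = 1 := by
      rcases (Nat.dvd_prime Nat.prime_two).mp h2 with h | h
      · exact h
      · rw [h] at h3; exact absurd h3 (by decide)
    exact orderOf_eq_one_iff.mp h4
  · intro t₀ ht₀ ht₀1 t ht ht1
    have ht₀2 : orderOf t₀ = 2 := orderOf_two_of_mul_self (h.sq t₀ ht₀) ht₀1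
    have ht2 : orderOf t = 2 := orderOf_two_of_mul_self (h.sq t ht) ht1
    exact (Cfsg.Agent.S1225.result H h.se i hi hiH t₀ t ht₀2 (h.le ht₀) ht2 (h.le ht)).1

/-- `D` is nontrivial. -/
theorem BSWHyp.exists_ne_one {H T : Subgroup G} (h : BSWHyp H T) {i : G} (hi : orderOf i = 2)
    (hiH : i ∉ H) : ∃ d ∈ interD H i, d ≠ 1 := by
  obtain ⟨t₁, ht₁, t₂, ht₂, h1, h2, h12⟩ := h.two
  obtain ⟨d, hd, hdc⟩ := (h.invol hi hiH).2.2.2 t₁ ht₁ h1 t₂ ht₂ h2
  refine ⟨d, hd, ?_⟩
  rintro rfl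
  apply h12
  simpa using hdc

/-- `N_H(D) = D`. -/
theorem BSWHyp.mem_of_normalizes {H T : Subgroup G} (h : BSWHyp H T) {i : G}
    (hi : orderOf i = 2) (hiH : i ∉ H) {x : G} (hx : x ∈ H)
    (hxn : ∀ d ∈ interD H i, x * d * x⁻¹ ∈ interD H i) : x ∈ interD H i := by
  obtain ⟨hinv, hdec, hodd, htr⟩ := h.invol hi hiH
  obtain ⟨d, hd, t, ht, rfl⟩ := hdec x hx
  obtain ⟨d', hd', hd'1⟩ := h.exists_ne_one hi hiH
  have hD_le : interD H i ≤ H := inf_le_left
  have h1 : t * d' * t⁻¹ ∈ interD H i := by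
    have := hxn d' hd'
    have h2 : t * d' * t⁻¹ = d⁻¹ * (d * t * d' * (d * t)⁻¹) * d := by group
    rw [h2]
    exact mul_mem (mul_mem (inv_mem hd) this) hd
  have h3 : t * d' * t⁻¹ * d'⁻¹ ∈ interD H i := mul_mem h1 (inv_mem hd')
  have h4 : t * d' * t⁻¹ * d'⁻¹ ∈ T := by
    have h5 : d' * t⁻¹ * d'⁻¹ ∈ T := h.norm d' (hD_le hd') t⁻¹ (inv_mem ht)
    have h6 : t * d' * t⁻¹ * d'⁻¹ = t * (d' * t⁻¹ * d'⁻¹) := by group
    rw [h6]; exact mul_mem ht h5
  have h7 : t * d' * t⁻¹ * d'⁻¹ = 1 := hodd _ h3 (h.sq _ h4)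
  have h8 : d' * t = t * d' := by
    have : t * d' = d' * t := by
      calc t * d' = (t * d' * t⁻¹ * d'⁻¹) * (d' * t) := by group
        _ = d' * t := by rw [h7, one_mul]
    exact this.symm
  by_cases ht1 : t = 1
  · subst ht1; simpa using hd
  · exfalso
    have h9 : d' ∈ T := h.cen t ht ht1 d' h8
    exact hd'1 (hodd d' hd' (h.sq d' h9))

/-- If `D = H ∩ uHu⁻¹` fixes the coset `iH` of an involution `i ∉ H` then `H ∩ iHi⁻¹ = D`. -/
theorem BSWHyp.interD_eq {H T : Subgroup G} (h : BSWHyp H T) {u i : G} (hu : orderOf u = 2)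
    (huH : u ∉ H) (hi : orderOf i = 2) (hiH : i ∉ H)
    (hfix : ∀ d ∈ interD H u, d • (QuotientGroup.mk i : G ⧸ H) = QuotientGroup.mk i) :
    interD H i = interD H u := by
  obtain ⟨-, hdecu, -, -⟩ := h.invol hu huH
  obtain ⟨-, -, hoddi, -⟩ := h.invol hi hiH
  have hle : interD H u ≤ interD H i := by
    intro d hd
    rw [mem_interD']
    exact ⟨inf_le_left (a := H) hd, (smul_mk_eq_iff H d i).mp (hfix d hd)⟩
  apply le_antisymm _ hle
  intro k hk
  obtain ⟨d, hd, t, ht, rfl⟩ := hdecu k (inf_le_left (a := H) hk)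
  have ht' : t ∈ interD H i := by
    have : t = d⁻¹ * (d * t) := by group
    rw [this]; exact mul_mem (inv_mem (hle hd)) hk
  have : t = 1 := hoddi t ht' (h.sq t ht)
  subst this; simpa using hd

/-- For every coset other than `H` there is an involution mapping `H` to it. -/
theorem BSWHyp.exists_invol_mk {H T : Subgroup G} (h : BSWHyp H T) (g : G)
    (hg : (QuotientGroup.mk g : G ⧸ H) ≠ QuotientGroup.mk 1) :
    ∃ i : G, orderOf i = 2 ∧ i ∉ H ∧ (QuotientGroup.mk i : G ⧸ H) = QuotientGroup.mk g := by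
  obtain ⟨t₀, ht₀, -, -, ht₀1, -, -⟩ := h.two
  have ht₀2 : orderOf t₀ = 2 := orderOf_two_of_mul_self (h.sq t₀ ht₀) ht₀1
  have hfix1 : t₀ • (QuotientGroup.mk 1 : G ⧸ H) = QuotientGroup.mk 1 := by
    rw [smul_mk_eq_iff]; simpa using h.le ht₀
  have hs : (g * t₀ * g⁻¹) • (QuotientGroup.mk g : G ⧸ H) = QuotientGroup.mk g := by
    rw [smul_mk_eq_iff]
    have : g⁻¹ * (g * t₀ * g⁻¹) * g = t₀ := by group
    rw [this]; exact h.le ht₀
  obtain ⟨i, hi, -, hia⟩ :=
    se_conj_of_fix h.se ht₀2 (orderOf_conj_two g ht₀2) (Ne.symm hg) hfix1 hs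
  have hig : (QuotientGroup.mk i : G ⧸ H) = QuotientGroup.mk g := by
    rw [← hia, MulAction.Quotient.smul_mk, smul_eq_mul, mul_one]
  refine ⟨i, hi, ?_, hig⟩
  intro hiH
  apply hg
  rw [← hig, QuotientGroup.eq]; simpa using hiH

/-- The cosets fixed by `D = H ∩ uHu⁻¹` are exactly `H` and `uH`. -/
theorem BSWHyp.fix_iff {H T : Subgroup G} (h : BSWHyp H T) {u : G} (hu : orderOf u = 2)
    (huH : u ∉ H) (g : G) :
    (∀ d ∈ interD H u, d • (QuotientGroup.mk g : G ⧸ H) = QuotientGroup.mk g) ↔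
      (QuotientGroup.mk g : G ⧸ H) = QuotientGroup.mk 1 ∨
        (QuotientGroup.mk g : G ⧸ H) = QuotientGroup.mk u := by
  have hu1 := mul_self_of_orderOf_two hu
  have hui : u⁻¹ = u := inv_eq_self_of_mul_self hu1
  obtain ⟨hinvu, hdecu, hoddu, htru⟩ := h.invol hu huH
  constructor
  · intro hfix
    by_contra hcon
    push_neg at hcon
    obtain ⟨hg1, hgu⟩ := hcon
    obtain ⟨i, hi, hiH, hig⟩ := h.exists_invol_mk g hg1
    have hfixi : ∀ d ∈ interD H u, d • (QuotientGroup.mk i : G ⧸ H) = QuotientGroup.mk i := by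
      rw [hig]; exact hfix
    have hDi := h.interD_eq hu huH hi hiH hfixi
    have hinvi : ∀ d ∈ interD H u, i * d * i⁻¹ = d⁻¹ := by
      intro d hd
      exact (h.invol hi hiH).1 d (hDi ▸ hd)
    have hc : ∀ d ∈ interD H u, (u * i) * d * (u * i)⁻¹ = d := by
      intro d hd
      have : (u * i) * d * (u * i)⁻¹ = u * (i * d * i⁻¹) * u⁻¹ := by group
      rw [this, hinvi d hd, hinvu d⁻¹ (inv_mem hd), inv_inv]
    have hc' : ∀ d ∈ interD H u, (u * i)⁻¹ * d * (u * i) = d := by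
      intro d hd
      have := hc d hd
      calc (u * i)⁻¹ * d * (u * i) = (u * i)⁻¹ * ((u * i) * d * (u * i)⁻¹) * (u * i) := by
            rw [this]
        _ = d := by group
    have hz1 : (QuotientGroup.mk (u * i) : G ⧸ H) ≠ QuotientGroup.mk 1 := by
      intro hz
      apply hgu
      rw [← hig, QuotientGroup.eq]
      rw [QuotientGroup.eq] at hz
      have : i⁻¹ * u = (u * i)⁻¹ * 1 := by rw [mul_one, mul_inv_rev, hui]
      rw [this]; exact hz
    obtain ⟨i', hi', hi'H, hi'g⟩ := h.exists_invol_mk (u * i) hz1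
    have hfixi' : ∀ d ∈ interD H u, d • (QuotientGroup.mk i' : G ⧸ H) = QuotientGroup.mk i' := by
      rw [hi'g]
      intro d hd
      rw [smul_mk_eq_iff, hc' d hd]
      exact inf_le_left (a := H) hd
    have hDi' := h.interD_eq hu huH hi' hi'H hfixi'
    have hinvi' : ∀ d ∈ interD H u, i' * d * i'⁻¹ = d⁻¹ := by
      intro d hd
      exact (h.invol hi' hi'H).1 d (hDi' ▸ hd)
    have heH : (u * i)⁻¹ * i' ∈ H := by
      rw [← QuotientGroup.eq]; exact hi'g.symm
    have heinv : ∀ d ∈ interD H u, ((u * i)⁻¹ * i') * d * ((u * i)⁻¹ * i')⁻¹ = d⁻¹ := by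
      intro d hd
      have : ((u * i)⁻¹ * i') * d * ((u * i)⁻¹ * i')⁻¹ =
          (u * i)⁻¹ * (i' * d * i'⁻¹) * (u * i) := by group
      rw [this, hinvi' d hd, hc' d⁻¹ (inv_mem hd)]
    generalize (u * i)⁻¹ * i' = e at heH heinv
    have heD : e ∈ interD H u := by
      apply h.mem_of_normalizes hu huH heH
      intro d hd
      rw [heinv d hd]; exact inv_mem hd
    have he1 : e = 1 := by
      apply hoddu _ heD
      have := heinv _ heD
      have h2 : e = e⁻¹ := by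
        rw [← this]; group
      calc e * e = e * e⁻¹ := by rw [← h2]
        _ = 1 := mul_inv_cancel _
    obtain ⟨d', hd', hd'1⟩ := h.exists_ne_one hu huH
    apply hd'1
    apply hoddu d' hd'
    have := heinv d' hd'
    rw [he1] at this
    have h3 : d' = d'⁻¹ := by simpa using this
    calc d' * d' = d' * d'⁻¹ := by rw [← h3]
      _ = 1 := mul_inv_cancel _
  · rintro (hg | hg)
    · intro d hd
      rw [hg, smul_mk_eq_iff]
      simpa using inf_le_left (a := H) hd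
    · intro d hd
      rw [hg, smul_mk_eq_iff]
      exact ((mem_interD' u d).mp hd).2

/-- `N_G(D) = D⟨u⟩`. -/
theorem BSWHyp.normalizer_eq {H T : Subgroup G} (h : BSWHyp H T) {u : G} (hu : orderOf u = 2)
    (huH : u ∉ H) :
    Subgroup.normalizer ((interD H u : Subgroup G) : Set G) =
      interD H u ⊔ Subgroup.zpowers u := by
  have hu1 := mul_self_of_orderOf_two hu
  have hui : u⁻¹ = u := inv_eq_self_of_mul_self hu1
  have huN : u ∈ Subgroup.normalizer ((interD H u : Subgroup G) : Set G) := by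
    rw [Subgroup.mem_normalizer_iff]
    intro d
    constructor
    · exact fun hd => interD_conj_mem hu1 hd
    · intro hd
      have := interD_conj_mem hu1 hd
      have h2 : u * (u * d * u⁻¹) * u⁻¹ = d := by
        rw [hui]; simp only [mul_assoc, hu1, mul_one]; rw [← mul_assoc, hu1, one_mul]
      rwa [h2] at this
  apply le_antisymm
  · intro n hn
    have hn' : ∀ d ∈ interD H u, n * d * n⁻¹ ∈ interD H u :=
      fun d hd => (Subgroup.mem_normalizer_iff.mp hn d).mp hd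
    have hninv : ∀ d ∈ interD H u, n⁻¹ * d * n ∈ interD H u := by
      intro d hd
      have := (Subgroup.mem_normalizer_iff.mp (inv_mem hn) d).mp hd
      rwa [inv_inv] at this
    have hfix : ∀ d ∈ interD H u, d • (QuotientGroup.mk n : G ⧸ H) = QuotientGroup.mk n := by
      intro d hd
      rw [smul_mk_eq_iff]
      exact inf_le_left (a := H) (hninv d hd)
    rcases (h.fix_iff hu huH n).mp hfix with h1 | h1
    · have hnH : n ∈ H := by
        rw [QuotientGroup.eq] at h1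
        have : n = (n⁻¹ * 1)⁻¹ := by group
        rw [this]; exact inv_mem h1
      exact Subgroup.mem_sup_left (h.mem_of_normalizes hu huH hnH hn')
    · have hunH : u⁻¹ * n ∈ H := by
        rw [QuotientGroup.eq] at h1
        have : u⁻¹ * n = (n⁻¹ * u)⁻¹ := by group
        rw [this]; exact inv_mem h1
      have hun : u⁻¹ * n ∈ Subgroup.normalizer ((interD H u : Subgroup G) : Set G) :=
        mul_mem (inv_mem huN) hn
      have hunD : u⁻¹ * n ∈ interD H u :=
        h.mem_of_normalizes hu huH hunH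
          (fun d hd => (Subgroup.mem_normalizer_iff.mp hun d).mp hd)
      have : n = u * (u⁻¹ * n) := by group
      rw [this]
      exact mul_mem (Subgroup.mem_sup_right (Subgroup.mem_zpowers u)) (Subgroup.mem_sup_left hunD)
  · apply sup_le Subgroup.le_normalizer
    rw [Subgroup.zpowers_le]; exact huN

end BSW3

end Cfsg.Agent.Lib.helper6
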