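import Mathlib
import Cfsg.Prelude.Def_Involutions
import Cfsg.Agent.Lib.helper6.Invol
import Cfsg.Agent.Lib.helper6.SE
import Cfsg.Agent.Lib.helper6.BSW3

set_option autoImplicit false

namespace Cfsg.Agent.Lib.helper6

section BSW4

variable {G : Type*} [Group G] [Finite G]

theorem BSWHyp.exists_invol_not_mem {H T : Subgroup G} (h : BSWHyp H T) :
    ∃ u : G, orderOf u = 2 ∧ u ∉ H := by
  have hne := h.se.1
  obtain ⟨g, hg⟩ : ∃ g : G, g ∉ H := by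
    by_contra hcon
    push_neg at hcon
    exact hne ((Subgroup.eq_top_iff' H).mpr hcon)
  obtain ⟨t₀, ht₀, -, -, ht₀1, -, -⟩ := h.two
  have ht₀2 := orderOf_two_of_mul_self (h.sq t₀ ht₀) ht₀1
  refine ⟨g * t₀ * g⁻¹, orderOf_conj_two g ht₀2, ?_⟩
  intro hh
  exact hg (se_mem_of_conj_mem h.se ht₀2 (h.le ht₀) hh)

theorem BSWHyp.comm_interD {H T : Subgroup G} (h : BSWHyp H T) {i : G} (hi : orderOf i = 2)
    (hiH : i ∉ H) : ∀ a ∈ interD H i, ∀ b ∈ interD H i, a * b = b * a := by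
  obtain ⟨hinv, -, -, -⟩ := h.invol hi hiH
  intro a ha b hb
  have h1 := hinv (a * b) (mul_mem ha hb)
  have h2 : i * (a * b) * i⁻¹ = (i * a * i⁻¹) * (i * b * i⁻¹) := by group
  rw [h2, hinv a ha, hinv b hb] at h1
  have h3 : (b * a)⁻¹ = (a * b)⁻¹ := by rw [mul_inv_rev]; exact h1
  exact (inv_injective h3).symm

theorem BSWHyp.T_comm_eq_one {H T : Subgroup G} (h : BSWHyp H T) {i : G} (hi : orderOf i = 2)
    (hiH : i ∉ H) {d t : G} (hd : d ∈ interD H i) (hd1 : d ≠ 1) (ht : t ∈ T)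
    (hc : t * d = d * t) : t = 1 := by
  by_contra ht1
  have h9 : d ∈ T := h.cen t ht ht1 d hc.symm
  exact hd1 ((h.invol hi hiH).2.2.1 d hd (h.sq d h9))

theorem BSWHyp.mem_of_comm {H T : Subgroup G} (h : BSWHyp H T) {i : G} (hi : orderOf i = 2)
    (hiH : i ∉ H) {e k : G} (he : e ∈ interD H i) (he1 : e ≠ 1) (hk : k ∈ H)
    (hc : k * e = e * k) : k ∈ interD H i := by
  obtain ⟨-, hdec, -, -⟩ := h.invol hi hiH
  obtain ⟨b, hb, t, ht, rfl⟩ := hdec k hk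
  have hbe := h.comm_interD hi hiH b hb e he
  have hte : t * e = e * t := by
    calc t * e = b⁻¹ * (b * t * e) := by group
      _ = b⁻¹ * (e * (b * t)) := by rw [hc]
      _ = b⁻¹ * (e * b) * t := by group
      _ = b⁻¹ * (b * e) * t := by rw [hbe]
      _ = e * t := by group
  have := h.T_comm_eq_one hi hiH he he1 ht hte
  subst this
  simpa using hb

theorem BSWHyp.T_semiregular {H T : Subgroup G} (h : BSWHyp H T) {t : G} (ht : t ∈ T)
    {a : G ⧸ H} (ha : a ≠ QuotientGroup.mk 1) (hta : t • a = a) : t = 1 := by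
  by_contra ht1
  have ht2 : orderOf t = 2 := orderOf_two_of_mul_self (h.sq t ht) ht1
  have hfix1 : t • (QuotientGroup.mk 1 : G ⧸ H) = QuotientGroup.mk 1 := by
    rw [smul_mk_eq_iff]; simpa using h.le ht
  exact ha (se_fix_unique h.se ht2 hta hfix1)

theorem BSWHyp.T_transitive {H T : Subgroup G} (h : BSWHyp H T) {u : G} (hu : orderOf u = 2)
    (huH : u ∉ H) (a : G ⧸ H) (ha : a ≠ QuotientGroup.mk 1) :
    ∃ s ∈ T, s • (QuotientGroup.mk u : G ⧸ H) = a := by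
  obtain ⟨g, rfl⟩ := QuotientGroup.mk_surjective a
  obtain ⟨i, hi, hiH, hig⟩ := h.exists_invol_mk g ha
  rw [← hig]
  obtain ⟨d₁, hd₁, hd₁1⟩ := h.exists_ne_one hu huH
  obtain ⟨-, hdeci, -, -⟩ := h.invol hi hiH
  obtain ⟨b, hb, t₁, ht₁, hbt⟩ := hdeci d₁ (inf_le_left (a := H) hd₁)
  have hψ : ∃ s ∈ T, d₁⁻¹ * s * d₁ * s⁻¹ = t₁⁻¹ := by
    let ψ : T → T := fun s => ⟨d₁⁻¹ * s * d₁ * (s : G)⁻¹, by
      have h5 : d₁⁻¹ * (s : G) * d₁⁻¹⁻¹ ∈ T :=
        h.norm d₁⁻¹ (inv_mem (inf_le_left (a := H) hd₁)) s s.2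
      rw [inv_inv] at h5
      exact mul_mem h5 (inv_mem s.2)⟩
    have hinj : Function.Injective ψ := by
      intro s s' hss
      have h1 : d₁⁻¹ * (s : G) * d₁ * (s : G)⁻¹ = d₁⁻¹ * (s' : G) * d₁ * (s' : G)⁻¹ :=
        congrArg Subtype.val hss
      have h3 : (s : G) * d₁ * (s : G)⁻¹ = (s' : G) * d₁ * (s' : G)⁻¹ := by
        have := congrArg (fun x => d₁ * x) h1
        simpa [mul_assoc] using this
      have h2 : ((s' : G)⁻¹ * s) * d₁ = d₁ * ((s' : G)⁻¹ * s) := by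
        calc ((s' : G)⁻¹ * s) * d₁ = (s' : G)⁻¹ * ((s : G) * d₁ * (s : G)⁻¹) * s := by group
          _ = (s' : G)⁻¹ * ((s' : G) * d₁ * (s' : G)⁻¹) * s := by rw [h3]
          _ = d₁ * ((s' : G)⁻¹ * s) := by group
      have h4 := h.T_comm_eq_one hu huH hd₁ hd₁1 (mul_mem (inv_mem s'.2) s.2) h2
      apply Subtype.ext
      exact (inv_mul_eq_one.mp h4).symm
    obtain ⟨s, hs⟩ := Finite.surjective_of_injective hinj ⟨t₁⁻¹, inv_mem ht₁⟩
    exact ⟨s, s.2, congrArg Subtype.val hs⟩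
  obtain ⟨s, hs, hsψ⟩ := hψ
  have he : s * d₁ * s⁻¹ = b := by
    have : b = d₁ * t₁⁻¹ := by rw [hbt]; group
    rw [this, ← hsψ]; group
  have he1 : b ≠ 1 := by
    intro hb1
    rw [hb1] at he
    exact hd₁1 (conj_eq_one_iff.mp he)
  refine ⟨s, hs, ?_⟩
  have hfix : ∀ k ∈ interD H i,
      k • (QuotientGroup.mk (s * u) : G ⧸ H) = QuotientGroup.mk (s * u) := by
    intro k hk
    have hkH : s⁻¹ * k * s ∈ H :=
      mul_mem (mul_mem (inv_mem (h.le hs)) (inf_le_left (a := H) hk)) (h.le hs)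
    have hkb := h.comm_interD hi hiH k hk b hb
    have hcomm : (s⁻¹ * k * s) * d₁ = d₁ * (s⁻¹ * k * s) := by
      calc (s⁻¹ * k * s) * d₁ = s⁻¹ * (k * (s * d₁ * s⁻¹)) * s := by group
        _ = s⁻¹ * ((s * d₁ * s⁻¹) * k) * s := by rw [he, hkb]
        _ = d₁ * (s⁻¹ * k * s) := by group
    have hkD : s⁻¹ * k * s ∈ interD H u := h.mem_of_comm hu huH hd₁ hd₁1 hkH hcomm
    rw [smul_mk_eq_iff]
    have : (s * u)⁻¹ * k * (s * u) = u⁻¹ * (s⁻¹ * k * s) * u := by group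
    rw [this]
    exact ((mem_interD' u _).mp hkD).2
  rw [MulAction.Quotient.smul_mk, smul_eq_mul]
  rcases (h.fix_iff hi hiH (s * u)).mp hfix with h1 | h1
  · exfalso
    apply huH
    rw [QuotientGroup.eq] at h1
    have : u = s⁻¹ * ((s * u)⁻¹ * 1)⁻¹ := by group
    rw [this]; exact mul_mem (inv_mem (h.le hs)) (inv_mem h1)
  · exact h1

theorem BSWHyp.D_semiregular {H T : Subgroup G} (h : BSWHyp H T) {u : G} (hu : orderOf u = 2)
    (huH : u ∉ H) {d : G} (hd : d ∈ interD H u) {a : G ⧸ H} (ha1 : a ≠ QuotientGroup.mk 1)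
    (hau : a ≠ QuotientGroup.mk u) (hda : d • a = a) : d = 1 := by
  by_contra hd1
  obtain ⟨g, rfl⟩ := QuotientGroup.mk_surjective a
  obtain ⟨i, hi, hiH, hig⟩ := h.exists_invol_mk g ha1
  rw [← hig] at hda hau ha1
  have hdi : d ∈ interD H i :=
    (mem_interD' i d).mpr ⟨inf_le_left (a := H) hd, (smul_mk_eq_iff H d i).mp hda⟩
  have hfix : ∀ k ∈ interD H u, k • (QuotientGroup.mk i : G ⧸ H) = QuotientGroup.mk i := by
    intro k hk
    have hkd := h.comm_interD hu huH k hk d hd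
    have hki : k ∈ interD H i := h.mem_of_comm hi hiH hdi hd1 (inf_le_left (a := H) hk) hkd
    rw [smul_mk_eq_iff]
    exact ((mem_interD' i k).mp hki).2
  rcases (h.fix_iff hu huH i).mp hfix with h1 | h1
  · exact ha1 h1
  · exact hau h1

theorem BSWHyp.D_transitive {H T : Subgroup G} (h : BSWHyp H T) {u : G} (hu : orderOf u = 2)
    (huH : u ∉ H) {a b : G ⧸ H} (ha1 : a ≠ QuotientGroup.mk 1) (hau : a ≠ QuotientGroup.mk u)
    (hb1 : b ≠ QuotientGroup.mk 1) (hbu : b ≠ QuotientGroup.mk u) :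
    ∃ d ∈ interD H u, d • a = b := by
  obtain ⟨s, hs, hsa⟩ := h.T_transitive hu huH a ha1
  obtain ⟨s', hs', hsb⟩ := h.T_transitive hu huH b hb1
  have hs1 : s ≠ 1 := by rintro rfl; apply hau; rw [← hsa, one_smul]
  have hs'1 : s' ≠ 1 := by rintro rfl; apply hbu; rw [← hsb, one_smul]
  obtain ⟨d, hd, hdc⟩ := (h.invol hu huH).2.2.2 s hs hs1 s' hs' hs'1
  refine ⟨d, hd, ?_⟩
  have hdu : d • (QuotientGroup.mk u : G ⧸ H) = QuotientGroup.mk u := by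
    rw [smul_mk_eq_iff]; exact ((mem_interD' u d).mp hd).2
  have hdu' : d⁻¹ • (QuotientGroup.mk u : G ⧸ H) = QuotientGroup.mk u := by
    rw [inv_smul_eq_iff]; exact hdu.symm
  rw [← hsa, ← hsb, ← hdc]
  calc d • s • (QuotientGroup.mk u : G ⧸ H) = (d * s) • (QuotientGroup.mk u : G ⧸ H) :=
        (mul_smul _ _ _).symm
    _ = (d * s) • (d⁻¹ • (QuotientGroup.mk u : G ⧸ H)) := by rw [hdu']
    _ = (d * s * d⁻¹) • (QuotientGroup.mk u : G ⧸ H) := (mul_smul _ _ _).symm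

theorem BSWHyp.two_transitive {H T : Subgroup G} (h : BSWHyp H T) {u : G} (hu : orderOf u = 2)
    (huH : u ∉ H) (x₁ x₂ : G ⧸ H) (h12 : x₁ ≠ x₂) :
    ∃ b : G, b • x₁ = QuotientGroup.mk 1 ∧ b • x₂ = QuotientGroup.mk u := by
  obtain ⟨g, rfl⟩ := QuotientGroup.mk_surjective x₁
  have h1 : g⁻¹ • (QuotientGroup.mk g : G ⧸ H) = QuotientGroup.mk 1 := by
    rw [MulAction.Quotient.smul_mk, smul_eq_mul, inv_mul_cancel]
  have h2 : g⁻¹ • x₂ ≠ QuotientGroup.mk 1 := by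
    intro hh
    apply h12
    rw [← h1] at hh
    exact (smul_left_cancel _ hh).symm
  obtain ⟨s, hs, hsa⟩ := h.T_transitive hu huH _ h2
  refine ⟨s⁻¹ * g⁻¹, ?_, ?_⟩
  · rw [mul_smul, h1, smul_mk_eq_iff]
    simpa using h.le hs
  · rw [mul_smul, ← hsa, inv_smul_smul]

theorem BSWHyp.three_fix {H T : Subgroup G} (h : BSWHyp H T) {u : G} (hu : orderOf u = 2)
    (huH : u ∉ H) (g : G) (x₁ x₂ x₃ : G ⧸ H) (h12 : x₁ ≠ x₂) (h13 : x₁ ≠ x₃) (h23 : x₂ ≠ x₃)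
    (hg1 : g • x₁ = x₁) (hg2 : g • x₂ = x₂) (hg3 : g • x₃ = x₃) : g = 1 := by
  obtain ⟨b, hb1, hb2⟩ := h.two_transitive hu huH x₁ x₂ h12
  have hf : ∀ x : G ⧸ H, g • x = x → (b * g * b⁻¹) • (b • x) = b • x := by
    intro x hx
    rw [← mul_smul]
    have : b * g * b⁻¹ * b = b * g := by group
    rw [this, mul_smul, hx]
  have h1 := hf x₁ hg1
  rw [hb1] at h1
  have h2 := hf x₂ hg2
  rw [hb2] at h2
  have h3 := hf x₃ hg3
  have hH : b * g * b⁻¹ ∈ H := by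
    rw [smul_mk_eq_iff] at h1; simpa using h1
  have hD : b * g * b⁻¹ ∈ interD H u :=
    (mem_interD' u _).mpr ⟨hH, (smul_mk_eq_iff H _ u).mp h2⟩
  have hb31 : b • x₃ ≠ QuotientGroup.mk 1 := by
    rw [← hb1]; intro hh; exact h13 (smul_left_cancel _ hh).symm
  have hb3u : b • x₃ ≠ QuotientGroup.mk u := by
    rw [← hb2]; intro hh; exact h23 (smul_left_cancel _ hh).symm
  have := h.D_semiregular hu huH hD hb31 hb3u h3
  exact conj_eq_one_iff.mp this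

theorem BSWHyp.three_transitive {H T : Subgroup G} (h : BSWHyp H T) {u : G}
    (hu : orderOf u = 2) (huH : u ∉ H) (x₁ x₂ x₃ y₁ y₂ y₃ : G ⧸ H) (hx12 : x₁ ≠ x₂)
    (hx13 : x₁ ≠ x₃) (hx23 : x₂ ≠ x₃) (hy12 : y₁ ≠ y₂) (hy13 : y₁ ≠ y₃) (hy23 : y₂ ≠ y₃) :
    ∃ g : G, g • x₁ = y₁ ∧ g • x₂ = y₂ ∧ g • x₃ = y₃ := by
  obtain ⟨b, hb1, hb2⟩ := h.two_transitive hu huH x₁ x₂ hx12
  obtain ⟨c, hc1, hc2⟩ := h.two_transitive hu huH y₁ y₂ hy12
  have hb31 : b • x₃ ≠ QuotientGroup.mk 1 := by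
    rw [← hb1]; intro hh; exact hx13 (smul_left_cancel _ hh).symm
  have hb3u : b • x₃ ≠ QuotientGroup.mk u := by
    rw [← hb2]; intro hh; exact hx23 (smul_left_cancel _ hh).symm
  have hc31 : c • y₃ ≠ QuotientGroup.mk 1 := by
    rw [← hc1]; intro hh; exact hy13 (smul_left_cancel _ hh).symm
  have hc3u : c • y₃ ≠ QuotientGroup.mk u := by
    rw [← hc2]; intro hh; exact hy23 (smul_left_cancel _ hh).symm
  obtain ⟨d, hd, hdz⟩ := h.D_transitive hu huH hb31 hb3u hc31 hc3u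
  have hd1 : d • (QuotientGroup.mk 1 : G ⧸ H) = QuotientGroup.mk 1 := by
    rw [smul_mk_eq_iff]; simpa using inf_le_left (a := H) hd
  have hdu : d • (QuotientGroup.mk u : G ⧸ H) = QuotientGroup.mk u := by
    rw [smul_mk_eq_iff]; exact ((mem_interD' u d).mp hd).2
  refine ⟨c⁻¹ * d * b, ?_, ?_, ?_⟩
  · rw [mul_smul, mul_smul, hb1, hd1, ← hc1, inv_smul_smul]
  · rw [mul_smul, mul_smul, hb2, hdu, ← hc2, inv_smul_smul]
  · rw [mul_smul, mul_smul, hdz, inv_smul_smul]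

theorem BSWHyp.T_regular {H T : Subgroup G} (h : BSWHyp H T) {u : G} (hu : orderOf u = 2)
    (huH : u ∉ H) (x y : G ⧸ H) (hx : x ≠ QuotientGroup.mk 1) (hy : y ≠ QuotientGroup.mk 1) :
    ∃! t : G, t ∈ T ∧ t • x = y := by
  obtain ⟨s, hs, hsx⟩ := h.T_transitive hu huH x hx
  obtain ⟨s', hs', hsy⟩ := h.T_transitive hu huH y hy
  refine ⟨s' * s⁻¹, ⟨mul_mem hs' (inv_mem hs), ?_⟩, ?_⟩
  · rw [← hsx, mul_smul, inv_smul_smul, hsy]
  · rintro t ⟨ht, htx⟩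
    have h1 : ((s' * s⁻¹)⁻¹ * t) • x = x := by
      rw [mul_smul, htx, ← hsy, ← hsx, mul_inv_rev, inv_inv, mul_smul, inv_smul_smul]
    have h2 := h.T_semiregular (mul_mem (inv_mem (mul_mem hs' (inv_mem hs))) ht) hx h1
    exact (inv_mul_eq_one.mp h2).symm

end BSW4

end Cfsg.Agent.Lib.helper6
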