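import Mathlib
import Cfsg.Agent.S0016

set_option autoImplicit false

namespace Cfsg.Agent.Lib.helper6.Q8E

section basics
variable {G : Type*} [Group G]

/-- odd order automorphism -/
def Od (g : MulAut G) : Prop := ∃ j : ℕ, Odd j ∧ g ^ j = 1

theorem pow_fix (g : MulAut G) (x : G) (h : g x = x) (n : ℕ) : (g ^ n) x = x := by
  induction n with
  | zero => simp
  | succ n ih => rw [pow_succ, MulAut.mul_apply, h, ih]

theorem fix_of_coprime (g : MulAut G) (x : G) (a b : ℕ) (hab : Nat.Coprime a b)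
    (ha : (g ^ a) x = x) (hb : (g ^ b) x = x) : g x = x := by
  have h1 : g ^ a ∈ MulAction.stabilizer (MulAut G) x := by
    rw [MulAction.mem_stabilizer_iff, MulAut.smul_def]; exact ha
  have h2 : g ^ b ∈ MulAction.stabilizer (MulAut G) x := by
    rw [MulAction.mem_stabilizer_iff, MulAut.smul_def]; exact hb
  have h3 : g ∈ MulAction.stabilizer (MulAut G) x := by
    have e : g = (g ^ a) ^ (Nat.gcdA a b) * (g ^ b) ^ (Nat.gcdB a b) := by
      rw [← zpow_natCast g a, ← zpow_natCast g b, ← zpow_mul, ← zpow_mul, ← zpow_add,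
        ← Nat.gcd_eq_gcd_ab, hab.gcd_eq_one]
      simp
    rw [e]
    exact Subgroup.mul_mem _ (Subgroup.zpow_mem _ h1 _) (Subgroup.zpow_mem _ h2 _)
  rw [MulAction.mem_stabilizer_iff, MulAut.smul_def] at h3
  exact h3

theorem Od.pow {g : MulAut G} (h : Od g) (n : ℕ) : Od (g ^ n) := by
  obtain ⟨j, hj, e⟩ := h
  exact ⟨j, hj, by rw [← pow_mul, mul_comm, pow_mul, e, one_pow]⟩

theorem Od.inv {g : MulAut G} (h : Od g) : Od g⁻¹ := by
  obtain ⟨j, hj, e⟩ := h
  exact ⟨j, hj, by rw [inv_pow, e, inv_one]⟩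

theorem Od.mul {g k : MulAut G} (hg : Od g) (hk : Od k) (hc : Commute g k) : Od (g * k) := by
  obtain ⟨j, hj, e⟩ := hg
  obtain ⟨i, hi, e'⟩ := hk
  refine ⟨j * i, hj.mul hi, ?_⟩
  rw [hc.mul_pow, pow_mul, e, one_pow, mul_comm j i, pow_mul, e', one_pow, one_mul]

theorem modEq_one_of_pow (k j s : ℕ) (hj : Odd j) (h : k ^ j ≡ 1 [MOD 2 ^ s]) :
    k ≡ 1 [MOD 2 ^ s] := by
  rcases Nat.eq_zero_or_pos s with hs | hs
  · subst hs
    rw [pow_zero]
    exact Nat.modEq_one
  haveI : NeZero (2 ^ s) := ⟨by positivity⟩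
  have h1 : ((k : ZMod (2 ^ s))) ^ j = 1 := by
    have := (ZMod.natCast_eq_natCast_iff (k ^ j) 1 (2 ^ s)).mpr h
    push_cast at this
    exact this
  have hj0 : j ≠ 0 := by
    rintro rfl
    simp at hj
  let u : (ZMod (2 ^ s))ˣ := Units.ofPowEqOne (k : ZMod (2 ^ s)) j h1 hj0
  have hu : u ^ j = 1 := Units.pow_ofPowEqOne h1 hj0
  have hd1 : orderOf u ∣ j := orderOf_dvd_of_pow_eq_one hu
  have hd2 : orderOf u ∣ 2 ^ (s - 1) := by
    have := orderOf_dvd_natCard u
    rw [Nat.card_eq_fintype_card, ZMod.card_units_eq_totient,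
      Nat.totient_prime_pow Nat.prime_two hs] at this
    simpa using this
  obtain ⟨t, -, ht⟩ := (Nat.dvd_prime_pow Nat.prime_two).mp hd2
  have ht0 : t = 0 := by
    by_contra hne
    have : 2 ∣ orderOf u := by
      rw [ht]
      exact dvd_pow_self 2 hne
    have h2j : 2 ∣ j := this.trans hd1
    rcases hj with ⟨c, hc⟩
    omega
  rw [ht0, pow_zero, orderOf_eq_one_iff] at ht
  have hk1 : (k : ZMod (2 ^ s)) = 1 := by
    have : ((u : (ZMod (2 ^ s))ˣ) : ZMod (2 ^ s)) = 1 := by rw [ht]; rfl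
    rwa [Units.val_ofPowEqOne] at this
  have := (ZMod.natCast_eq_natCast_iff k 1 (2 ^ s)).mp (by rw [hk1]; simp)
  exact this

theorem fix_of_mem_zpowers (g : MulAut G) (hg : Od g) (x : G) (s : ℕ)
    (hx : orderOf x = 2 ^ s) (hm : g x ∈ Subgroup.zpowers x) : g x = x := by
  obtain ⟨j, hj, hgj⟩ := hg
  have hfin : IsOfFinOrder x := by
    rw [← orderOf_pos_iff, hx]
    positivity
  obtain ⟨k, hk⟩ := (Submonoid.mem_powers_iff _ _).mp (hfin.mem_powers_iff_mem_zpowers.mpr hm)
  have hit : ∀ n : ℕ, (g ^ n) x = x ^ (k ^ n) := by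
    intro n
    induction n with
    | zero => simp
    | succ n ih =>
      rw [pow_succ', MulAut.mul_apply, ih, map_pow, ← hk, ← pow_mul, pow_succ', mul_comm]
  have h1 : x ^ (k ^ j) = x ^ 1 := by
    rw [← hit j, hgj, pow_one]
    rfl
  rw [pow_eq_pow_iff_modEq, hx] at h1
  have h2 := modEq_one_of_pow k j s hj h1
  rw [← hk]
  have h3 : x ^ k = x ^ 1 := by
    rw [pow_eq_pow_iff_modEq, hx]
    exact h2
  rw [h3, pow_one]

end basics

/-- odd-order automorphisms of generalized quaternion groups of order at least 16 are trivial -/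
theorem quat_big (m : ℕ) (hm : 4 ≤ m) (hm2 : ∃ n, m = 2 ^ n) (θ : MulAut (QuaternionGroup m))
    (hθ : Od θ) : θ = 1 := by
  haveI : NeZero m := ⟨by omega⟩
  obtain ⟨n, rfl⟩ := hm2
  have ha1 : θ (QuaternionGroup.a 1) = QuaternionGroup.a 1 := by
    apply fix_of_mem_zpowers θ hθ (QuaternionGroup.a 1) (n + 1)
    · rw [QuaternionGroup.orderOf_a_one, pow_succ, mul_comm]
    · have ho : orderOf (θ (QuaternionGroup.a 1)) = 2 * 2 ^ n := by
        rw [MulEquiv.orderOf_eq, QuaternionGroup.orderOf_a_one]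
      rcases h : θ (QuaternionGroup.a 1) with k | k
      · rw [Subgroup.mem_zpowers_iff]
        refine ⟨(k.val : ℤ), ?_⟩
        rw [zpow_natCast, QuaternionGroup.a_one_pow, ZMod.natCast_zmod_val]
      · exfalso
        rw [h, QuaternionGroup.orderOf_xa] at ho
        omega
  have ha : ∀ i : ZMod (2 * 2 ^ n), θ (QuaternionGroup.a i) = QuaternionGroup.a i := by
    intro i
    have : (QuaternionGroup.a i : QuaternionGroup (2 ^ n)) = QuaternionGroup.a 1 ^ i.val := by
      rw [QuaternionGroup.a_one_pow, ZMod.natCast_zmod_val]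
    rw [this, map_pow, ha1]
  have hx0 : θ (QuaternionGroup.xa 0) = QuaternionGroup.xa 0 := by
    rcases h : θ (QuaternionGroup.xa 0) with k | i
    · exfalso
      have := θ.injective (h.trans (ha k).symm)
      cases this
    · obtain ⟨j, hj, hθj⟩ := hθ
      have hit : ∀ t : ℕ, (θ ^ t) (QuaternionGroup.xa 0) = QuaternionGroup.xa ((t : ZMod (2 * 2 ^ n)) * i) := by
        intro t
        induction t with
        | zero => simp
        | succ t ih =>
          rw [pow_succ', MulAut.mul_apply, ih]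
          have e : (QuaternionGroup.xa ((t : ZMod (2 * 2 ^ n)) * i) : QuaternionGroup (2 ^ n)) =
              QuaternionGroup.xa 0 * QuaternionGroup.a ((t : ZMod (2 * 2 ^ n)) * i) := by
            rw [QuaternionGroup.xa_mul_a, zero_add]
          rw [e, map_mul, h, ha, QuaternionGroup.xa_mul_a]
          congr 1
          push_cast
          ring
      have h1 := hit j
      rw [hθj] at h1
      have h2 : (QuaternionGroup.xa 0 : QuaternionGroup (2 ^ n)) =
          QuaternionGroup.xa ((j : ZMod (2 * 2 ^ n)) * i) := h1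
      have h3 : (j : ZMod (2 * 2 ^ n)) * i = 0 := by
        injection h2 with h2
        exact h2.symm
      have hu : IsUnit (j : ZMod (2 * 2 ^ n)) := by
        rw [ZMod.isUnit_iff_coprime]
        have : 2 * 2 ^ n = 2 ^ (n + 1) := by rw [pow_succ, mul_comm]
        rw [this]
        apply Nat.Coprime.pow_right
        rw [Nat.coprime_two_right]
        exact hj
      have h4 : i = 0 := by
        obtain ⟨u, hu⟩ := hu
        rw [← hu] at h3
        exact (Units.mul_right_eq_zero u).mp h3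
      rw [h4]
  ext g
  rcases g with i | i
  · rw [ha]; rfl
  · have e : (QuaternionGroup.xa i : QuaternionGroup (2 ^ n)) =
        QuaternionGroup.xa 0 * QuaternionGroup.a i := by
      rw [QuaternionGroup.xa_mul_a, zero_add]
    rw [e, map_mul, hx0, ha]
    rfl

end Cfsg.Agent.Lib.helper6.Q8E
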