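import Mathlib
import Cfsg.Agent.Lib.helper6.Q8A

set_option autoImplicit false

namespace Cfsg.Agent.Lib.helper6.Q8E

theorem q8_sq : ∀ x : QuaternionGroup 2,
    x = 1 ∨ x = QuaternionGroup.a 2 ∨ x * x = QuaternionGroup.a 2 := by decide

theorem q8_cos' : ∀ x y w : QuaternionGroup 2, (x = 1 ∨ x = QuaternionGroup.a 2 ∨ y = 1 ∨
    y = QuaternionGroup.a 2 ∨ y = x ∨ y = x * QuaternionGroup.a 2) ∨
    (w = 1 ∨ w = x ∨ w = QuaternionGroup.a 2 ∨ w = x * QuaternionGroup.a 2 ∨ w = y ∨ w = x * y ∨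
      w = QuaternionGroup.a 2 * y ∨ w = x * QuaternionGroup.a 2 * y) := by decide

theorem q8_cos (x y w : QuaternionGroup 2) (h1 : x ≠ 1) (h2 : x ≠ QuaternionGroup.a 2)
    (h3 : y ≠ 1) (h4 : y ≠ QuaternionGroup.a 2) (h5 : y ≠ x) (h6 : y ≠ x * QuaternionGroup.a 2) :
    (w = 1 ∨ w = x ∨ w = QuaternionGroup.a 2 ∨ w = x * QuaternionGroup.a 2 ∨ w = y ∨ w = x * y ∨
      w = QuaternionGroup.a 2 * y ∨ w = x * QuaternionGroup.a 2 * y) := by
  rcases q8_cos' x y w with (h | h | h | h | h | h) | h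
  exacts [absurd h h1, absurd h h2, absurd h h3, absurd h h4, absurd h h5, absurd h h6, h]

theorem q8_nc' : ∀ x y : QuaternionGroup 2, (x = 1 ∨ x = QuaternionGroup.a 2 ∨ y = 1 ∨
    y = QuaternionGroup.a 2 ∨ y = x ∨ y = x * QuaternionGroup.a 2) ∨
    y * x = x * y * QuaternionGroup.a 2 := by decide

theorem q8_nc (x y : QuaternionGroup 2) (h1 : x ≠ 1) (h2 : x ≠ QuaternionGroup.a 2)
    (h3 : y ≠ 1) (h4 : y ≠ QuaternionGroup.a 2) (h5 : y ≠ x) (h6 : y ≠ x * QuaternionGroup.a 2) :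
    y * x = x * y * QuaternionGroup.a 2 := by
  rcases q8_nc' x y with (h | h | h | h | h | h) | h
  exacts [absurd h h1, absurd h h2, absurd h h3, absurd h h4, absurd h h5, absurd h h6, h]

variable {W : Type*} [Group W]

/-- a quaternion subgroup of order 8 with central involution `z` -/
structure Q8 (Q : Subgroup W) (z : W) : Prop where
  zmem : z ∈ Q
  z1 : z ≠ 1
  zsq : z * z = 1
  card : Nat.card Q = 8
  sq : ∀ x ∈ Q, x = 1 ∨ x = z ∨ x * x = z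
  cos : ∀ x ∈ Q, ∀ y ∈ Q, ∀ w ∈ Q, x ≠ 1 → x ≠ z → y ≠ 1 → y ≠ z → y ≠ x → y ≠ x * z →
    (w = 1 ∨ w = x ∨ w = z ∨ w = x * z ∨ w = y ∨ w = x * y ∨ w = z * y ∨ w = x * z * y)
  nc : ∀ x ∈ Q, ∀ y ∈ Q, x ≠ 1 → x ≠ z → y ≠ 1 → y ≠ z → y ≠ x → y ≠ x * z →
    y * x = x * y * z

theorem Q8.of_iso (Q : Subgroup W) (ε : ↥Q ≃* QuaternionGroup 2) : ∃ z, Q8 Q z := by
  let z' : ↥Q := ε.symm (QuaternionGroup.a 2)
  have hz' : ε z' = QuaternionGroup.a 2 := ε.apply_symm_apply _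
  have T : ∀ (u v : ↥Q), ε u = ε v → (u : W) = v := fun u v h => congrArg Subtype.val (ε.injective h)
  have N : ∀ (u v : ↥Q), (u : W) ≠ v → ε u ≠ ε v := fun u v h h' => h (T u v h')
  have N1 : ∀ (x : W) (hx : x ∈ Q), x ≠ 1 → ε ⟨x, hx⟩ ≠ 1 := by
    intro x hx h
    rw [← map_one ε]
    exact N ⟨x, hx⟩ 1 h
  have Nz : ∀ (x : W) (hx : x ∈ Q), x ≠ (z' : W) → ε ⟨x, hx⟩ ≠ QuaternionGroup.a 2 := by
    intro x hx h
    rw [← hz']
    exact N ⟨x, hx⟩ z' h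
  have Nxz : ∀ (x : W) (hx : x ∈ Q) (y : W) (hy : y ∈ Q), y ≠ x * (z' : W) →
      ε ⟨y, hy⟩ ≠ ε ⟨x, hx⟩ * QuaternionGroup.a 2 := by
    intro x hx y hy h
    rw [← hz', ← map_mul]
    exact N ⟨y, hy⟩ (⟨x, hx⟩ * z') h
  refine ⟨(z' : W), z'.2, ?_, ?_, ?_, ?_, ?_, ?_⟩
  · intro h
    have : z' = 1 := Subtype.ext h
    rw [this, map_one] at hz'
    exact absurd hz' (by decide)
  · have : z' * z' = 1 := by
      apply ε.injective
      rw [map_mul, hz', map_one]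
      decide
    exact congrArg Subtype.val this
  · rw [Nat.card_congr ε.toEquiv, Nat.card_eq_fintype_card, QuaternionGroup.card]
  · intro x hx
    rcases q8_sq (ε ⟨x, hx⟩) with h | h | h
    · left
      exact T ⟨x, hx⟩ 1 (by rw [h, map_one])
    · right; left
      exact T ⟨x, hx⟩ z' (by rw [h, hz'])
    · right; right
      exact T (⟨x, hx⟩ * ⟨x, hx⟩) z' (by rw [map_mul, h, hz'])
  · intro x hx y hy w hw h1 h2 h3 h4 h5 h6
    rcases q8_cos (ε ⟨x, hx⟩) (ε ⟨y, hy⟩) (ε ⟨w, hw⟩) (N1 x hx h1) (Nz x hx h2) (N1 y hy h3)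
      (Nz y hy h4) (N ⟨y, hy⟩ ⟨x, hx⟩ h5) (Nxz x hx y hy h6) with h | h | h | h | h | h | h | h
    · exact Or.inl (T ⟨w, hw⟩ 1 (by rw [h, map_one]))
    · exact Or.inr (Or.inl (T ⟨w, hw⟩ ⟨x, hx⟩ h))
    · exact Or.inr (Or.inr (Or.inl (T ⟨w, hw⟩ z' (by rw [h, hz']))))
    · exact Or.inr (Or.inr (Or.inr (Or.inl (T ⟨w, hw⟩ (⟨x, hx⟩ * z') (by rw [h, map_mul, hz'])))))
    · exact Or.inr (Or.inr (Or.inr (Or.inr (Or.inl (T ⟨w, hw⟩ ⟨y, hy⟩ h)))))
    · exact Or.inr (Or.inr (Or.inr (Or.inr (Or.inr (Or.inl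
        (T ⟨w, hw⟩ (⟨x, hx⟩ * ⟨y, hy⟩) (by rw [h, map_mul])))))))
    · exact Or.inr (Or.inr (Or.inr (Or.inr (Or.inr (Or.inr (Or.inl
        (T ⟨w, hw⟩ (z' * ⟨y, hy⟩) (by rw [h, map_mul, hz']))))))))
    · exact Or.inr (Or.inr (Or.inr (Or.inr (Or.inr (Or.inr (Or.inr
        (T ⟨w, hw⟩ (⟨x, hx⟩ * z' * ⟨y, hy⟩) (by rw [h, map_mul, map_mul, hz']))))))))
  · intro x hx y hy h1 h2 h3 h4 h5 h6
    have h := q8_nc (ε ⟨x, hx⟩) (ε ⟨y, hy⟩) (N1 x hx h1) (Nz x hx h2) (N1 y hy h3)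
      (Nz y hy h4) (N ⟨y, hy⟩ ⟨x, hx⟩ h5) (Nxz x hx y hy h6)
    exact T (⟨y, hy⟩ * ⟨x, hx⟩) (⟨x, hx⟩ * ⟨y, hy⟩ * z') (by rw [map_mul, map_mul, map_mul, hz', h])

namespace Q8
variable {Q : Subgroup W} {z : W} (h : Q8 Q z)
include h

theorem zc (x : W) (hx : x ∈ Q) : z * x = x * z := by
  rcases h.sq x hx with e | e | e
  · rw [e, mul_one, one_mul]
  · rw [e]
  · rw [← e, mul_assoc]

theorem exists_y [Finite W] (x : W) : ∃ y ∈ Q, y ≠ 1 ∧ y ≠ z ∧ y ≠ x ∧ y ≠ x * z := by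
  by_contra hcon
  push Not at hcon
  have hsub : (Q : Set W) ⊆ ({1, z, x, x * z} : Set W) := by
    intro y hy
    by_contra hy'
    simp only [Set.mem_insert_iff, Set.mem_singleton_iff, not_or] at hy'
    exact hy'.2.2.2 (hcon y hy hy'.1 hy'.2.1 hy'.2.2.1)
  have h1 : Nat.card Q ≤ ({1, z, x, x * z} : Set W).ncard := by
    have := Set.ncard_le_ncard hsub (Set.toFinite _)
    rwa [← Nat.card_coe_set_eq] at this
  have h2 : ({1, z, x, x * z} : Set W).ncard ≤ 4 := by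
    have a1 := Set.ncard_insert_le (1 : W) ({z, x, x * z} : Set W)
    have a2 := Set.ncard_insert_le z ({x, x * z} : Set W)
    have a3 := Set.ncard_insert_le x ({x * z} : Set W)
    have a4 : ({x * z} : Set W).ncard = 1 := Set.ncard_singleton _
    omega
  have := h.card
  omega

theorem exists_x [Finite W] : ∃ x ∈ Q, x ≠ 1 ∧ x ≠ z := by
  obtain ⟨y, hy, h1, h2, -, -⟩ := h.exists_y 1
  exact ⟨y, hy, h1, h2⟩

theorem fix_z (φ : MulAut W) (hφ : ∀ q ∈ Q, φ q ∈ Q) : φ z = z := by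
  rcases h.sq (φ z) (hφ z h.zmem) with e | e | e
  · exfalso
    apply h.z1
    exact φ.injective (e.trans (map_one φ).symm)
  · exact e
  · exfalso
    rw [← map_mul, h.zsq, map_one] at e
    exact h.z1 e.symm

theorem triv_of_fix [Finite W] (φ : MulAut W) (hφ : ∀ q ∈ Q, φ q ∈ Q) (hod : Od φ) (x : W)
    (hx : x ∈ Q) (hx1 : x ≠ 1) (hxz : x ≠ z) (hfx : φ x = x ∨ φ x = x * z) :
    ∀ q ∈ Q, φ q = q := by
  have hz := h.fix_z φ hφ
  obtain ⟨j, hj, hφj⟩ := hod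
  have hxx : x * x = z := by
    rcases h.sq x hx with e | e | e
    exacts [absurd e hx1, absurd e hxz, e]
  have hfix : φ x = x := by
    apply fix_of_coprime φ x 2 j (by simpa using hj) ?_ (by rw [hφj]; rfl)
    rw [pow_two, MulAut.mul_apply]
    rcases hfx with e | e
    · rw [e, e]
    · rw [e, map_mul, e, hz, mul_assoc, h.zsq, mul_one]
  obtain ⟨y, hy, hy1, hyz, hyx, hyxz⟩ := h.exists_y x
  have hx4 : x ^ 4 = 1 := by
    have : x ^ 4 = (x * x) * (x * x) := by rw [show 4 = 2 + 2 from rfl, pow_add, pow_two]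
    rw [this, hxx, h.zsq]
  have hH : ∀ t : W, (t = 1 ∨ t = x ∨ t = z ∨ t = x * z) → φ t = t ∧ t ^ 4 = 1 := by
    intro t ht
    rcases ht with e | e | e | e
    · rw [e]; exact ⟨map_one φ, one_pow 4⟩
    · rw [e]; exact ⟨hfix, hx4⟩
    · rw [e]
      refine ⟨hz, ?_⟩
      have : z ^ 4 = (z * z) * (z * z) := by rw [show 4 = 2 + 2 from rfl, pow_add, pow_two]
      rw [this, h.zsq, one_mul]
    · rw [e]
      refine ⟨by rw [map_mul, hfix, hz], ?_⟩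
      have hc : Commute x z := (h.zc x hx).symm
      rw [hc.mul_pow, hx4, one_mul]
      have : z ^ 4 = (z * z) * (z * z) := by rw [show 4 = 2 + 2 from rfl, pow_add, pow_two]
      rw [this, h.zsq, one_mul]
  have hφy : φ y = y := by
    have key : ∃ t : W, (t = 1 ∨ t = x ∨ t = z ∨ t = x * z) ∧ φ y = t * y := by
      rcases h.cos x hx y hy (φ y) (hφ y hy) hx1 hxz hy1 hyz hyx hyxz with
        e | e | e | e | e | e | e | e
      · exfalso; apply hy1; exact φ.injective (e.trans (map_one φ).symm)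
      · exfalso; apply hyx; exact φ.injective (e.trans hfix.symm)
      · exfalso; apply hyz; exact φ.injective (e.trans hz.symm)
      · exfalso; apply hyxz; apply φ.injective; rw [e, map_mul, hfix, hz]
      · exact ⟨1, Or.inl rfl, by rw [e, one_mul]⟩
      · exact ⟨x, Or.inr (Or.inl rfl), e⟩
      · exact ⟨z, Or.inr (Or.inr (Or.inl rfl)), e⟩
      · exact ⟨x * z, Or.inr (Or.inr (Or.inr rfl)), e⟩
    obtain ⟨t, ht, e⟩ := key
    obtain ⟨ht1, ht4⟩ := hH t ht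
    have hit : ∀ n : ℕ, (φ ^ n) y = t ^ n * y := by
      intro n
      induction n with
      | zero => simp
      | succ n ih =>
        rw [pow_succ', MulAut.mul_apply, ih, map_mul, map_pow, ht1, e, ← mul_assoc, ← pow_succ]
    have h1 : t ^ j = 1 := by
      have h2 := hit j
      rw [hφj] at h2
      have h3 : y = t ^ j * y := h2
      exact mul_right_cancel (h3.symm.trans (one_mul y).symm)
    have ht' : t = 1 := by
      have hd : orderOf t ∣ Nat.gcd j 4 :=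
        Nat.dvd_gcd (orderOf_dvd_of_pow_eq_one h1) (orderOf_dvd_of_pow_eq_one ht4)
      have hg : Nat.gcd j 4 = 1 := by
        have : Nat.Coprime j (2 ^ 2) := Nat.Coprime.pow_right 2 (Nat.coprime_two_right.mpr hj)
        exact this
      rw [hg, Nat.dvd_one, orderOf_eq_one_iff] at hd
      exact hd
    rw [e, ht', one_mul]
  intro q hq
  rcases h.cos x hx y hy q hq hx1 hxz hy1 hyz hyx hyxz with e | e | e | e | e | e | e | e <;>
    rw [e] <;> simp [map_mul, hfix, hz, hφy]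

theorem moved [Finite W] (φ : MulAut W) (hφ : ∀ q ∈ Q, φ q ∈ Q) (hod : Od φ)
    (hne : ∃ q ∈ Q, φ q ≠ q) (x : W) (hx : x ∈ Q) (hx1 : x ≠ 1) (hxz : x ≠ z) :
    φ x ≠ x ∧ φ x ≠ x * z := by
  obtain ⟨q, hq, hqn⟩ := hne
  constructor
  · intro e; exact hqn (h.triv_of_fix φ hφ hod x hx hx1 hxz (Or.inl e) q hq)
  · intro e; exact hqn (h.triv_of_fix φ hφ hod x hx hx1 hxz (Or.inr e) q hq)

theorem orbit [Finite W] (φ : MulAut W) (hφ : ∀ q ∈ Q, φ q ∈ Q) (hod : Od φ)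
    (hne : ∃ q ∈ Q, φ q ≠ q) (x : W) (hx : x ∈ Q) (hx1 : x ≠ 1) (hxz : x ≠ z) :
    φ x ≠ 1 ∧ φ x ≠ z ∧ φ x ≠ x ∧ φ x ≠ x * z ∧
      ∃ c, (c = 1 ∨ c = z) ∧ φ (φ x) = x * φ x * c := by
  have hz := h.fix_z φ hφ
  obtain ⟨m1, m2⟩ := h.moved φ hφ hod hne x hx hx1 hxz
  have y1 : φ x ≠ 1 := fun e => hx1 (φ.injective (e.trans (map_one φ).symm))
  have yz : φ x ≠ z := fun e => hxz (φ.injective (e.trans hz.symm))
  refine ⟨y1, yz, m1, m2, ?_⟩
  have hy := hφ x hx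
  obtain ⟨n1, n2⟩ := h.moved φ hφ hod hne (φ x) hy y1 yz
  have hne2 : ∃ q ∈ Q, (φ ^ 2) q ≠ q := by
    obtain ⟨q, hq, hqn⟩ := hne
    refine ⟨q, hq, fun e => hqn ?_⟩
    obtain ⟨j, hj, hφj⟩ := hod
    exact fix_of_coprime φ q 2 j (by simpa using hj) e (by rw [hφj]; rfl)
  have hφ2 : ∀ q ∈ Q, (φ ^ 2) q ∈ Q := fun q hq => by
    rw [pow_two, MulAut.mul_apply]
    exact hφ _ (hφ q hq)
  obtain ⟨k1, k2⟩ := h.moved (φ ^ 2) hφ2 (hod.pow 2) hne2 x hx hx1 hxz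
  rw [pow_two, MulAut.mul_apply] at k1 k2
  rcases h.cos x hx (φ x) hy (φ (φ x)) (hφ _ hy) hx1 hxz y1 yz m1 m2 with
    e | e | e | e | e | e | e | e
  · exact absurd (φ.injective (e.trans (map_one φ).symm)) y1
  · exact absurd e k1
  · exact absurd (φ.injective (e.trans hz.symm)) yz
  · exact absurd e k2
  · exact absurd e n1
  · exact ⟨1, Or.inl rfl, by rw [e, mul_one]⟩
  · exfalso; apply n2; rw [e, h.zc _ hy]
  · exact ⟨z, Or.inr rfl, by rw [e, mul_assoc, h.zc _ hy, ← mul_assoc]⟩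

theorem key_id (x y : W) (hx : x ∈ Q) (hy : y ∈ Q) (hnc : y * x = x * y * z) (hyy : y * y = z) :
    y * (x * y) = x := by
  rw [← mul_assoc, hnc, mul_assoc, h.zc _ hy, ← mul_assoc, mul_assoc x, hyy, mul_assoc, h.zsq,
    mul_one]

theorem three [Finite W] (φ : MulAut W) (hφ : ∀ q ∈ Q, φ q ∈ Q) (hne : ∃ q ∈ Q, φ q ≠ q)
    (p m : ℕ) (hp : p.Prime) (hp2 : p ≠ 2) (hpm : φ ^ (p ^ m) = 1) : p = 3 := by
  have hod : Od φ := ⟨p ^ m, (hp.odd_of_ne_two hp2).pow, hpm⟩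
  obtain ⟨x, hx, hx1, hxz⟩ := h.exists_x
  obtain ⟨y1, yz, m1, m2, c, hc, hor⟩ := h.orbit φ hφ hod hne x hx hx1 hxz
  have hz := h.fix_z φ hφ
  have hy := hφ x hx
  have hnc := h.nc x hx (φ x) hy hx1 hxz y1 yz m1 m2
  have hyy : φ x * φ x = z := by
    rcases h.sq _ hy with e | e | e
    exacts [absurd e y1, absurd e yz, e]
  have hk := h.key_id x (φ x) hx hy hnc hyy
  have h3 : (φ ^ 3) x = x := by
    have e3 : (φ ^ 3) x = φ (φ (φ x)) := by
      rw [pow_succ, pow_two, MulAut.mul_apply, MulAut.mul_apply]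
    rw [e3, hor]
    rcases hc with e | e
    · rw [e, mul_one, map_mul, hor, e, mul_one, hk]
    · rw [e, map_mul, map_mul, hz, hor, e]
      have e4 : φ x * (x * φ x * z) * z = φ x * (x * φ x) * (z * z) := by group
      rw [e4, hk, h.zsq, mul_one]
  by_contra hp3
  have hcop : Nat.Coprime 3 (p ^ m) :=
    Nat.Coprime.pow_right m ((Nat.coprime_primes Nat.prime_three hp).mpr (Ne.symm hp3))
  have hφ3 : ∀ q ∈ Q, (φ ^ 3) q ∈ Q := fun q hq => by
    rw [pow_succ, pow_two, MulAut.mul_apply, MulAut.mul_apply]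
    exact hφ _ (hφ _ (hφ q hq))
  have ht := h.triv_of_fix (φ ^ 3) hφ3 (hod.pow 3) x hx hx1 hxz (Or.inl h3)
  obtain ⟨q, hq, hqn⟩ := hne
  exact hqn (fix_of_coprime φ q 3 (p ^ m) hcop (ht q hq) (by rw [hpm]; rfl))

theorem center [Finite W] (x : W) (hx : x ∈ Q) (hc : ∀ q ∈ Q, q * x = x * q) : x = 1 ∨ x = z := by
  by_contra hcon
  push Not at hcon
  obtain ⟨y, hy, hy1, hyz, hyx, hyxz⟩ := h.exists_y x
  have := h.nc x hx y hy hcon.1 hcon.2 hy1 hyz hyx hyxz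
  rw [hc y hy] at this
  exact h.z1 (mul_left_cancel (this.symm.trans (mul_one _).symm))

theorem inv_sub [Finite W] (K : Subgroup W) (f : MulAut W) (hf : ∀ q ∈ Q, f q ∈ Q)
    (hfK : ∀ k ∈ K, f k ∈ K) (hod : Od f) (hne : ∃ q ∈ Q, f q ≠ q) (hzK : z ∈ K) (x : W)
    (hxK : x ∈ K) (hx : x ∈ Q) (hx1 : x ≠ 1) (hxz : x ≠ z) : Q ≤ K := by
  obtain ⟨y1, yz, m1, m2, -⟩ := h.orbit f hf hod hne x hx hx1 hxz
  intro q hq
  rcases h.cos x hx (f x) (hf x hx) q hq hx1 hxz y1 yz m1 m2 with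
    e | e | e | e | e | e | e | e <;> rw [e]
  · exact K.one_mem
  · exact hxK
  · exact hzK
  · exact K.mul_mem hxK hzK
  · exact hfK _ hxK
  · exact K.mul_mem hxK (hfK _ hxK)
  · exact K.mul_mem hzK (hfK _ hxK)
  · exact K.mul_mem (K.mul_mem hxK hzK) (hfK _ hxK)

theorem inner [Finite W] (w : W) (hw : ∀ q ∈ Q, w * q * w⁻¹ = q ∨ w * q * w⁻¹ = q * z) :
    ∃ q₀ ∈ Q, ∀ q ∈ Q, (q₀⁻¹ * w) * q = q * (q₀⁻¹ * w) := by
  obtain ⟨x, hx, hx1, hxz⟩ := h.exists_x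
  obtain ⟨y, hy, hy1, hyz, hyx, hyxz⟩ := h.exists_y x
  have hnc := h.nc x hx y hy hx1 hxz hy1 hyz hyx hyxz
  have hxx : x * x = z := by
    rcases h.sq x hx with e | e | e
    exacts [absurd e hx1, absurd e hxz, e]
  have red : ∀ q₀ ∈ Q, q₀ * x * q₀⁻¹ = w * x * w⁻¹ → q₀ * y * q₀⁻¹ = w * y * w⁻¹ →
      ∀ q ∈ Q, (q₀⁻¹ * w) * q = q * (q₀⁻¹ * w) := by
    intro q₀ _ ex ey
    have cx : Commute (q₀⁻¹ * w) x := by
      have h1 : w * x = q₀ * x * q₀⁻¹ * w := by rw [ex]; group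
      show q₀⁻¹ * w * x = x * (q₀⁻¹ * w)
      rw [mul_assoc, h1]; group
    have cy : Commute (q₀⁻¹ * w) y := by
      have h1 : w * y = q₀ * y * q₀⁻¹ * w := by rw [ey]; group
      show q₀⁻¹ * w * y = y * (q₀⁻¹ * w)
      rw [mul_assoc, h1]; group
    have cz : Commute (q₀⁻¹ * w) z := by
      rw [← hxx]
      exact cx.mul_right cx
    intro q hq
    rcases h.cos x hx y hy q hq hx1 hxz hy1 hyz hyx hyxz with
      e | e | e | e | e | e | e | e <;> rw [e]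
    · simp
    · exact cx.eq
    · exact cz.eq
    · exact (cx.mul_right cz).eq
    · exact cy.eq
    · exact (cx.mul_right cy).eq
    · exact (cz.mul_right cy).eq
    · exact ((cx.mul_right cz).mul_right cy).eq
  have hyx' : y * x = x * z * y := by rw [hnc, mul_assoc, ← h.zc y hy, mul_assoc]
  have e1 : y * x * y⁻¹ = x * z := by rw [hyx']; group
  have hxy' : x * y = y * z * x := by
    calc x * y = x * y * (z * z) := by rw [h.zsq, mul_one]
      _ = x * y * z * z := by rw [mul_assoc (x * y)]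
      _ = y * x * z := by rw [← hnc]
      _ = y * z * x := by rw [mul_assoc, ← h.zc x hx, mul_assoc]
  have e2 : x * y * x⁻¹ = y * z := by rw [hxy']; group
  have e3 : x * z * x⁻¹ = z := by rw [← h.zc x hx]; group
  rcases hw x hx with ax | ax <;> rcases hw y hy with ay | ay
  · exact ⟨1, Q.one_mem, red 1 Q.one_mem (by rw [ax]; group) (by rw [ay]; group)⟩
  · refine ⟨x, hx, red x hx (by rw [ax]; group) (by rw [ay, e2])⟩
  · refine ⟨y, hy, red y hy (by rw [ax, e1]) (by rw [ay]; group)⟩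
  · refine ⟨x * y, Q.mul_mem hx hy, red (x * y) (Q.mul_mem hx hy) ?_ ?_⟩
    · have : x * y * x * (x * y)⁻¹ = x * (y * x * y⁻¹) * x⁻¹ := by group
      rw [this, e1, ax]
      have : x * (x * z) * x⁻¹ = x * (x * z * x⁻¹) := by group
      rw [this, e3]
    · have : x * y * y * (x * y)⁻¹ = x * y * x⁻¹ := by group
      rw [this, e2, ay]

end Q8

end Cfsg.Agent.Lib.helper6.Q8E
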