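import Mathlib
import Cfsg.Agent.Lib.helper6.Q8B
import Cfsg.Agent.Lib.helper9.Generation

set_option autoImplicit false

namespace Cfsg.Agent.Lib.helper6.Q8E

variable {W : Type*} [Group W]

theorem pow_mem_of (e : MulAut W) (Q : Subgroup W) (he : ∀ q ∈ Q, e q ∈ Q) (n : ℕ) :
    ∀ q ∈ Q, (e ^ n) q ∈ Q := by
  induction n with
  | zero => intro q hq; simpa using hq
  | succ n ih =>
    intro q hq
    rw [pow_succ, MulAut.mul_apply]
    exact ih _ (he q hq)

theorem Q8.pow_of_comm [Finite W] {Q : Subgroup W} {z : W} (h : Q8 Q z) (e g : MulAut W)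
    (he : ∀ q ∈ Q, e q ∈ Q) (hei : ∀ q ∈ Q, e⁻¹ q ∈ Q) (hg : ∀ q ∈ Q, g q ∈ Q)
    (hc : Commute e g) (hoe : Od e) (hog : Od g) (hne : ∃ q ∈ Q, e q ≠ q) :
    ∃ i : ℕ, i < 3 ∧ ∀ q ∈ Q, g q = (e ^ i) q := by
  obtain ⟨x, hx, hx1, hxz⟩ := h.exists_x
  obtain ⟨y1, yz, m1, m2, c, hcc, hor⟩ := h.orbit e he hoe hne x hx hx1 hxz
  have hze := h.fix_z e he
  have hzg := h.fix_z g hg
  have hy := he x hx
  have key : ∀ i : ℕ, (g x = (e ^ i) x ∨ g x = (e ^ i) x * z) → ∀ q ∈ Q, g q = (e ^ i) q := by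
    intro i hi
    have hzi : (e ^ i)⁻¹ z = z := by
      have : (e ^ i) z = z := pow_fix e z hze i
      rw [← this, MulAut.inv_apply_self, this]
    have hk : ∀ q ∈ Q, ((e ^ i)⁻¹ * g) q = q := by
      apply h.triv_of_fix ((e ^ i)⁻¹ * g) ?_ ?_ x hx hx1 hxz ?_
      · intro q hq
        rw [MulAut.mul_apply, ← inv_pow]
        exact pow_mem_of e⁻¹ Q hei i _ (hg q hq)
      · exact ((hoe.pow i).inv).mul hog ((hc.pow_left i).inv_left)
      · rcases hi with e1 | e1
        · left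
          rw [MulAut.mul_apply, e1, MulAut.inv_apply_self]
        · right
          rw [MulAut.mul_apply, e1, map_mul, MulAut.inv_apply_self, hzi]
    intro q hq
    have h1 := hk q hq
    rw [MulAut.mul_apply] at h1
    have h2 := congrArg (e ^ i) h1
    rwa [MulAut.apply_inv_self] at h2
  have e2 : (e ^ 2) x = e (e x) := by rw [pow_two, MulAut.mul_apply]
  have e1 : (e ^ 1) x = e x := by rw [pow_one]
  have e0 : (e ^ 0) x = x := by rw [pow_zero]; rfl
  rcases h.cos x hx (e x) hy (g x) (hg x hx) hx1 hxz y1 yz m1 m2 with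
    a | a | a | a | a | a | a | a
  · exact absurd (g.injective (a.trans (map_one g).symm)) hx1
  · exact ⟨0, by norm_num, key 0 (Or.inl (by rw [e0, a]))⟩
  · exact absurd (g.injective (a.trans hzg.symm)) hxz
  · exact ⟨0, by norm_num, key 0 (Or.inr (by rw [e0, a]))⟩
  · exact ⟨1, by norm_num, key 1 (Or.inl (by rw [e1, a]))⟩
  · rcases hcc with b | b
    · exact ⟨2, by norm_num, key 2 (Or.inl (by rw [e2, hor, b, mul_one, a]))⟩
    · refine ⟨2, by norm_num, key 2 (Or.inr ?_)⟩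
      rw [e2, hor, b, a, mul_assoc, h.zsq, mul_one]
  · exact ⟨1, by norm_num, key 1 (Or.inr (by rw [e1, a, h.zc _ hy]))⟩
  · rcases hcc with b | b
    · refine ⟨2, by norm_num, key 2 (Or.inr ?_)⟩
      rw [e2, hor, b, mul_one, a, mul_assoc, h.zc _ hy, ← mul_assoc]
    · refine ⟨2, by norm_num, key 2 (Or.inl ?_)⟩
      rw [e2, hor, b, a, mul_assoc, h.zc _ hy, ← mul_assoc]

/-- restriction of an automorphism to an invariant subgroup -/
noncomputable def res (φ : MulAut W) (Q : Subgroup W) (h : Q.map φ.toMonoidHom = Q) : MulAut ↥Q :=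
  (φ.subgroupMap Q).trans (MulEquiv.subgroupCongr h)

theorem res_apply (φ : MulAut W) (Q : Subgroup W) (h : Q.map φ.toMonoidHom = Q) (q : ↥Q) :
    ((res φ Q h q : ↥Q) : W) = φ q := rfl

theorem res_pow (φ : MulAut W) (Q : Subgroup W) (h : Q.map φ.toMonoidHom = Q) (n : ℕ) :
    ∀ q : ↥Q, ((((res φ Q h) ^ n) q : ↥Q) : W) = (φ ^ n) q := by
  induction n with
  | zero => intro q; simp
  | succ n ih =>
    intro q
    rw [pow_succ, MulAut.mul_apply, ih, res_apply, pow_succ, MulAut.mul_apply]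

theorem res_od (φ : MulAut W) (Q : Subgroup W) (h : Q.map φ.toMonoidHom = Q) (hod : Od φ) :
    Od (res φ Q h) := by
  obtain ⟨j, hj, e⟩ := hod
  refine ⟨j, hj, ?_⟩
  ext q
  rw [res_pow, e]
  rfl

theorem class_aux {G : Type*} [Group G] [Finite G] (hG : IsPGroup 2 G)
    (huniq : ∀ x y : G, orderOf x = 2 → orderOf y = 2 → x = y)
    (ψ : MulAut G) (hψ : Od ψ) (hne : ψ ≠ 1) : Nonempty (G ≃* QuaternionGroup 2) := by
  haveI : Fact (Nat.Prime 2) := ⟨Nat.prime_two⟩
  have hcyc : ¬ IsCyclic G := by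
    intro hc
    obtain ⟨x, hx⟩ := hc.exists_generator
    obtain ⟨s, hs⟩ := (IsPGroup.iff_card (p := 2) (G := G)).mp hG
    have ho : orderOf x = 2 ^ s := by
      rw [← hs]
      exact orderOf_eq_card_of_forall_mem_zpowers hx
    have hfix := fix_of_mem_zpowers ψ hψ x s ho (hx _)
    apply hne
    ext y
    obtain ⟨k, rfl⟩ := Subgroup.mem_zpowers_iff.mp (hx y)
    rw [map_zpow, hfix]
    rfl
  have huniq' : ∀ H K : Subgroup G, Nat.card H = 2 → Nat.card K = 2 → H = K := by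
    have aux : ∀ H : Subgroup G, Nat.card H = 2 → ∃ t : G, orderOf t = 2 ∧ H = Subgroup.zpowers t := by
      intro H hH
      haveI : Nontrivial H := by
        rw [← Finite.one_lt_card_iff_nontrivial, hH]
        norm_num
      obtain ⟨t, ht⟩ := exists_ne (1 : H)
      have ho : orderOf (t : G) = 2 := by
        have h1 : orderOf t ∣ 2 := hH ▸ orderOf_dvd_natCard t
        rcases (Nat.dvd_prime Nat.prime_two).mp h1 with h2 | h2
        · exact absurd (orderOf_eq_one_iff.mp h2) ht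
        · rw [Subgroup.orderOf_coe]
          exact h2
      refine ⟨t, ho, ?_⟩
      symm
      apply Subgroup.eq_of_le_of_card_ge (Subgroup.zpowers_le.mpr t.2)
      rw [Nat.card_zpowers, ho, hH]
    intro H K hH hK
    obtain ⟨t, ht, rfl⟩ := aux H hH
    obtain ⟨s, hs, rfl⟩ := aux K hK
    rw [huniq t s ht hs]
  rcases Cfsg.Agent.S0016.result 2 hG huniq' with hc | ⟨-, n, ⟨ε⟩⟩
  · exact absurd hc hcyc
  · rcases n with _ | _ | n
    · exfalso
      apply hcyc
      have : IsCyclic (QuaternionGroup (2 ^ 0)) := QuaternionGroup.quaternionGroup_one_isCyclic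
      exact isCyclic_of_surjective ε.symm ε.symm.surjective
    · exact ⟨ε⟩
    · exfalso
      apply hne
      have hθ : Od (MulAut.congr ε ψ) := by
        obtain ⟨j, hj, e⟩ := hψ
        exact ⟨j, hj, by rw [← map_pow, e, map_one]⟩
      have h1 := quat_big (2 ^ (n + 1 + 1)) (by
        have : 2 ^ (n + 1 + 1) = 4 * 2 ^ n := by ring
        have : 0 < 2 ^ n := by positivity
        omega) ⟨_, rfl⟩ (MulAut.congr ε ψ) hθ
      have h2 : MulAut.congr ε ψ = MulAut.congr ε 1 := by rw [h1, map_one]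
      exact (MulAut.congr ε).injective h2

theorem class_sub [Finite W] (hW : IsPGroup 2 W) (Q : Subgroup W)
    (huniq : ∀ x ∈ Q, ∀ y ∈ Q, orderOf x = 2 → orderOf y = 2 → x = y)
    (φ : MulAut W) (hφ : ∀ q ∈ Q, φ q ∈ Q) (hφi : ∀ q ∈ Q, φ⁻¹ q ∈ Q) (hod : Od φ)
    (hne : ∃ q ∈ Q, φ q ≠ q) : ∃ z, Q8 Q z := by
  have hmap : Q.map φ.toMonoidHom = Q := by
    apply le_antisymm
    · rintro _ ⟨q, hq, rfl⟩
      exact hφ q hq
    · intro q hq
      exact ⟨φ⁻¹ q, hφi q hq, MulAut.apply_inv_self W φ q⟩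
  have hQ2 : IsPGroup 2 ↥Q := hW.to_subgroup Q
  have hu : ∀ x y : ↥Q, orderOf x = 2 → orderOf y = 2 → x = y := by
    intro x y hx hy
    apply Subtype.ext
    apply huniq x x.2 y y.2
    · rw [Subgroup.orderOf_coe]; exact hx
    · rw [Subgroup.orderOf_coe]; exact hy
  have hne' : res φ Q hmap ≠ 1 := by
    intro e
    obtain ⟨q, hq, hqn⟩ := hne
    apply hqn
    have := res_apply φ Q hmap ⟨q, hq⟩
    rw [e] at this
    exact this.symm
  obtain ⟨ε⟩ := class_aux hQ2 hu (res φ Q hmap) (res_od φ Q hmap hod) hne'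
  exact Q8.of_iso Q ε

end Cfsg.Agent.Lib.helper6.Q8E
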