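import Mathlib
import Cfsg.Agent.Lib.helper6.Q8C
import Cfsg.Agent.Lib.helper15.SubnSyl

set_option autoImplicit false

namespace Cfsg.Agent.Lib.helper6.Q8E

/-- generation by fixed points of nonidentity elements, for a noncyclic abelian coprime group of
automorphisms -/
theorem gen {W : Type*} [Group W] [Finite W] (E : Subgroup (MulAut W))
    (hcE : ∀ a b : ↥E, a * b = b * a) (hnc : ¬ IsCyclic ↥E)
    (hcop : (Nat.card ↥E).Coprime (Nat.card W)) (K T : Subgroup W)
    (hK : ∀ e ∈ E, ∀ k ∈ K, e k ∈ K)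
    (hT : ∀ e ∈ E, e ≠ 1 → ∀ k ∈ K, e k = k → k ∈ T) : K ≤ T := by
  classical
  haveI : Finite (W ⋊[E.subtype] ↥E) :=
    Finite.of_equiv _ (SemidirectProduct.equivProd (φ := E.subtype)).symm
  let inl : W →* W ⋊[E.subtype] ↥E := SemidirectProduct.inl
  let inr : ↥E →* W ⋊[E.subtype] ↥E := SemidirectProduct.inr
  have hinl : Function.Injective inl := SemidirectProduct.inl_injective
  have hinr : Function.Injective inr := SemidirectProduct.inr_injective
  haveI : IsMulCommutative ↥(inr.range) := ⟨⟨by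
    rintro ⟨_, ⟨a, rfl⟩⟩ ⟨_, ⟨b, rfl⟩⟩
    apply Subtype.ext
    show inr a * inr b = inr b * inr a
    rw [← map_mul, ← map_mul, hcE]⟩⟩
  have hconj : ∀ a ∈ inr.range, ∀ x ∈ K.map inl, a * x * a⁻¹ ∈ K.map inl := by
    rintro _ ⟨e, rfl⟩ _ ⟨k, hk, rfl⟩
    refine ⟨(e : MulAut W) k, hK e e.2 k hk, ?_⟩
    rw [← map_inv]
    exact SemidirectProduct.inl_aut (φ := E.subtype) e k
  have hAK : inr.range ≤ Subgroup.normalizer ((K.map inl : Subgroup (W ⋊[E.subtype] ↥E)) : Set (W ⋊[E.subtype] ↥E)) := by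
    intro a ha
    rw [Subgroup.mem_normalizer_iff]
    intro x
    constructor
    · exact hconj a ha x
    · intro hx
      have := hconj a⁻¹ (inr.range.inv_mem ha) _ hx
      have e : a⁻¹ * (a * x * a⁻¹) * a⁻¹⁻¹ = x := by group
      rwa [e] at this
  have hcop' : (Nat.card ↥(inr.range)).Coprime (Nat.card ↥(K.map inl)) := by
    rw [← Nat.card_congr (MonoidHom.ofInjective hinr).toEquiv,
      ← Nat.card_congr (K.equivMapOfInjective inl hinl).toEquiv]
    exact Nat.Coprime.coprime_dvd_right (Subgroup.card_subgroup_dvd_card K) hcop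
  have hT' : ∀ B : Subgroup (W ⋊[E.subtype] ↥E), B ≤ inr.range →
      (∃ a ∈ inr.range, B ⊔ Subgroup.zpowers a = inr.range) →
      K.map inl ⊓ Subgroup.centralizer (B : Set (W ⋊[E.subtype] ↥E)) ≤ T.map inl := by
    rintro B hB ⟨a, ha, hBa⟩
    have hBne : B ≠ ⊥ := by
      rintro rfl
      rw [bot_sup_eq] at hBa
      obtain ⟨e₀, rfl⟩ := ha
      apply hnc
      refine ⟨⟨e₀, fun e => ?_⟩⟩
      have : inr e ∈ Subgroup.zpowers (inr e₀) := by
        rw [hBa]
        exact ⟨e, rfl⟩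
      obtain ⟨k, hk⟩ := Subgroup.mem_zpowers_iff.mp this
      refine Subgroup.mem_zpowers_iff.mpr ⟨k, ?_⟩
      apply hinr
      rw [map_zpow]
      exact hk
    obtain ⟨⟨b, hb⟩, hb1⟩ := (Subgroup.ne_bot_iff_exists_ne_one).mp hBne
    obtain ⟨e, rfl⟩ := hB hb
    have he1 : (e : MulAut W) ≠ 1 := by
      intro h
      apply hb1
      apply Subtype.ext
      have : e = 1 := Subtype.ext h
      show inr e = 1
      rw [this, map_one]
    intro x hx0
    obtain ⟨⟨k, hk, rfl⟩, hx⟩ := Subgroup.mem_inf.mp hx0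
    rw [Subgroup.mem_centralizer_iff] at hx
    have h1 := hx (inr e) hb
    have h2 : inl ((e : MulAut W) k) = inl k := by
      have h3 := SemidirectProduct.inl_aut (φ := E.subtype) e k
      have h4 : inl ((e : MulAut W) k) = inr e * inl k * inr e⁻¹ := h3
      rw [h4, h1, mul_assoc, ← map_mul, mul_inv_cancel, map_one, mul_one]
    exact ⟨k, hT e e.2 he1 k hk (hinl h2), rfl⟩
  have key := Cfsg.Agent.Lib.helper9.gen_main inr.range (K.map inl) hAK hcop' (T.map inl) hT'
  intro k hk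
  obtain ⟨t, ht, e⟩ := key (Subgroup.mem_map_of_mem _ hk)
  rwa [hinl e] at ht

variable {W : Type*} [Group W]

/-- fixed points of an automorphism -/
def Fx (e : MulAut W) : Subgroup W where
  carrier := {x | e x = x}
  mul_mem' := by
    intro a b ha hb
    simp only [Set.mem_ofPred_eq] at *
    rw [map_mul, ha, hb]
  one_mem' := map_one e
  inv_mem' := by
    intro a ha
    simp only [Set.mem_ofPred_eq] at *
    rw [map_inv, ha]

theorem mem_Fx (e : MulAut W) (x : W) : x ∈ Fx e ↔ e x = x := Iff.rfl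

theorem zp_iff (z : W) (hzz : z * z = 1) (x : W) : x ∈ Subgroup.zpowers z ↔ x = 1 ∨ x = z := by
  constructor
  · intro hx
    obtain ⟨k, rfl⟩ := Subgroup.mem_zpowers_iff.mp hx
    have h2 : z ^ (2 : ℤ) = 1 := by
      rw [zpow_two, hzz]
    rcases Int.even_or_odd' k with ⟨m, hm | hm⟩
    · left
      rw [hm, zpow_mul, h2, one_zpow]
    · right
      rw [hm, zpow_add, zpow_mul, h2, one_zpow, one_mul, zpow_one]
  · rintro (rfl | rfl)
    · exact Subgroup.one_mem _
    · exact Subgroup.mem_zpowers _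

theorem center_K [Finite W] (hW : IsPGroup 2 W) (E : Subgroup (MulAut W))
    (hgen : ∀ K T : Subgroup W, (∀ e ∈ E, ∀ k ∈ K, e k ∈ K) →
      (∀ e ∈ E, e ≠ 1 → ∀ k ∈ K, e k = k → k ∈ T) → K ≤ T)
    (z : W) (hz1 : z ≠ 1) (hzz : z * z = 1) (K : Subgroup W) (hzK : z ∈ K)
    (hKinv : ∀ g ∈ E, ∀ k ∈ K, g k ∈ K)
    (HK : ∀ e ∈ E, e ≠ 1 → (∀ x ∈ K ⊓ Fx e, x = 1 ∨ x = z) ∨ (Q8 (Fx e) z ∧ Fx e ≤ K)) :
    (∀ x ∈ K, (∀ k ∈ K, k * x = x * k) → x = 1 ∨ x = z) ∧ (∀ k ∈ K, k * z = z * k) := by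
  have hZK : K ⊓ Subgroup.centralizer (K : Set W) ≤ Subgroup.zpowers z := by
    apply hgen
    · intro g hg x hx
      obtain ⟨hx1, hx2⟩ := Subgroup.mem_inf.mp hx
      refine Subgroup.mem_inf.mpr ⟨hKinv g hg x hx1, ?_⟩
      rw [Subgroup.mem_centralizer_iff]
      intro k hk
      have hk' : g⁻¹ k ∈ K := hKinv g⁻¹ (E.inv_mem hg) k hk
      have h1 := (Subgroup.mem_centralizer_iff.mp hx2) (g⁻¹ k) hk'
      have h2 := congrArg g h1
      rwa [map_mul, map_mul, MulAut.apply_inv_self] at h2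
    · intro e he he1 k hk hek
      obtain ⟨hk1, hk2⟩ := Subgroup.mem_inf.mp hk
      rw [zp_iff z hzz]
      rcases HK e he he1 with hl | ⟨hq, hle⟩
      · exact hl k (Subgroup.mem_inf.mpr ⟨hk1, hek⟩)
      · apply hq.center k hek
        intro q hq'
        exact (Subgroup.mem_centralizer_iff.mp hk2) q (hle hq')
  have h1 : ∀ x ∈ K, (∀ k ∈ K, k * x = x * k) → x = 1 ∨ x = z := by
    intro x hx hc
    rw [← zp_iff z hzz]
    apply hZK
    exact Subgroup.mem_inf.mpr ⟨hx, Subgroup.mem_centralizer_iff.mpr hc⟩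
  refine ⟨h1, ?_⟩
  haveI : Nontrivial ↥K := ⟨⟨⟨z, hzK⟩, 1, fun h => hz1 (congrArg Subtype.val h)⟩⟩
  haveI : Fact (Nat.Prime 2) := ⟨Nat.prime_two⟩
  haveI := (hW.to_subgroup K).center_nontrivial
  obtain ⟨c, hc⟩ := exists_ne (1 : Subgroup.center ↥K)
  have hcc : ∀ k ∈ K, k * ((c : ↥K) : W) = ((c : ↥K) : W) * k := by
    intro k hk
    have := (Subgroup.mem_center_iff.mp c.2) ⟨k, hk⟩
    exact congrArg Subtype.val this
  rcases h1 _ (c : ↥K).2 hcc with e | e
  · exfalso
    apply hc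
    apply Subtype.ext
    apply Subtype.ext
    exact e
  · rw [← e]
    exact hcc

theorem Q8.comm_or [Finite W] {Q : Subgroup W} {z : W} (h : Q8 Q z) (x y : W) (hx : x ∈ Q)
    (hy : y ∈ Q) : y * x = x * y ∨ y * x = x * y * z := by
  by_cases h1 : x = 1
  · left; rw [h1, mul_one, one_mul]
  by_cases h2 : x = z
  · left; rw [h2]; exact (h.zc y hy).symm
  by_cases h3 : y = 1
  · left; rw [h3, mul_one, one_mul]
  by_cases h4 : y = z
  · left; rw [h4]; exact h.zc x hx
  by_cases h5 : y = x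
  · left; rw [h5]
  by_cases h6 : y = x * z
  · left; rw [h6, mul_assoc, h.zc x hx, ← mul_assoc]
  · right; exact h.nc x hx y hy h1 h2 h3 h4 h5 h6

theorem join_big [Finite W] (H Q : Subgroup W) (z : W) (hz1 : z ≠ 1) (hzz : z * z = 1)
    (hzH : z ∈ H) (hcomm : ∀ h ∈ H, ∀ q ∈ Q, h * q = q * h) (hq : Q8 Q z) :
    Nat.card ↥(H ⊔ Q) = 4 * Nat.card H := by
  have hn : H ≤ Subgroup.normalizer (Q : Set W) := by
    intro h hh
    rw [Subgroup.mem_normalizer_iff]
    intro q
    constructor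
    · intro hq'
      rw [hcomm h hh q hq', mul_assoc, mul_inv_cancel, mul_one]
      exact hq'
    · intro hq'
      have e1 := hcomm h hh _ hq'
      have e2 : h * q * h⁻¹ = q := by
        have e3 : h * q * h⁻¹ * h = h * q := by group
        rw [e3] at e1
        exact mul_left_cancel e1
      rw [← e2]
      exact hq'
  have hcard := Cfsg.Agent.Lib.helper15.card_sup_mul_card_inf H Q hn
  have hinf : H ⊓ Q = Subgroup.zpowers z := by
    apply le_antisymm
    · intro x hx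
      obtain ⟨hx1, hx2⟩ := Subgroup.mem_inf.mp hx
      rw [zp_iff z hzz]
      apply hq.center x hx2
      intro q hq'
      exact (hcomm x hx1 q hq').symm
    · rw [Subgroup.zpowers_le]
      exact Subgroup.mem_inf.mpr ⟨hzH, hq.zmem⟩
  have ho : orderOf z = 2 := by
    apply orderOf_eq_prime
    · rw [pow_two, hzz]
    · exact hz1
  rw [hinf, Nat.card_zpowers, ho, hq.card] at hcard
  omega

theorem join_step [Finite W] (H Q : Subgroup W) (z : W) (hz1 : z ≠ 1) (hzz : z * z = 1)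
    (hzH : z ∈ H) (hcomm : ∀ h ∈ H, ∀ q ∈ Q, h * q = q * h)
    (hQ : (∀ x ∈ Q, x = 1 ∨ x = z) ∨ Q8 Q z) :
    Nat.card ↥(H ⊔ Q) = Nat.card H ∨ Nat.card ↥(H ⊔ Q) = 4 * Nat.card H := by
  rcases hQ with hs | hq
  · left
    have : Q ≤ H := by
      intro x hx
      rcases hs x hx with e | e
      · rw [e]; exact H.one_mem
      · rw [e]; exact hzH
    rw [sup_eq_left.mpr this]
  · right
    exact join_big H Q z hz1 hzz hzH hcomm hq

theorem inv_fix (g : MulAut W) (x : W) (h : g x = x) : g⁻¹ x = x := by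
  rw [← h, MulAut.inv_apply_self, h]

end Cfsg.Agent.Lib.helper6.Q8E
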