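import Mathlib
import Cfsg.Agent.Lib.helper6.Q8D

set_option autoImplicit false

namespace Cfsg.Agent.Lib.helper6.Q8E

variable {W : Type*} [Group W] [Finite W]

theorem comm_ind (hW : IsPGroup 2 W) (E : Subgroup (MulAut W))
    (hod : ∀ e ∈ E, Od e)
    (hgen : ∀ K T : Subgroup W, (∀ e ∈ E, ∀ k ∈ K, e k ∈ K) →
      (∀ e ∈ E, e ≠ 1 → ∀ k ∈ K, e k = k → k ∈ T) → K ≤ T)
    (hFx : ∀ e ∈ E, ∀ g ∈ E, ∀ q ∈ Fx e, g q ∈ Fx e)
    (z : W) (hz1 : z ≠ 1) (hzz : z * z = 1) (hzfix : ∀ g ∈ E, g z = z)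
    (hCE : ∀ x, (∀ g ∈ E, g x = x) → x = 1 ∨ x = z)
    (hdich : ∀ e ∈ E, e ≠ 1 → (∀ x ∈ Fx e, x = 1 ∨ x = z) ∨ Q8 (Fx e) z) :
    ∀ (n : ℕ) (K : Subgroup W), Nat.card K ≤ n → z ∈ K → (∀ g ∈ E, ∀ k ∈ K, g k ∈ K) →
      (∀ e ∈ E, e ≠ 1 → (∀ x ∈ K ⊓ Fx e, x = 1 ∨ x = z) ∨ (Q8 (Fx e) z ∧ Fx e ≤ K)) →
      ∀ e ∈ E, e ≠ 1 → ∀ f ∈ E, f ≠ 1 → Fx e ≠ Fx f →
        ∀ x ∈ K ⊓ Fx e, ∀ y ∈ K ⊓ Fx f, x * y = y * x := by
  intro n
  induction n with
  | zero =>
    intro K hc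
    have : 0 < Nat.card K := Nat.card_pos
    omega
  | succ n ih =>
    intro K hcard hzK hKinv HK
    obtain ⟨hcen, hzc⟩ := center_K hW E hgen z hz1 hzz K hzK hKinv HK
    by_cases hKz : ∀ k ∈ K, k = 1 ∨ k = z
    · intro e _ _ f _ _ _ x hx y hy
      rcases hKz x (Subgroup.mem_inf.mp hx).1 with e1 | e1 <;>
        rcases hKz y (Subgroup.mem_inf.mp hy).1 with e2 | e2 <;> simp [e1, e2]
    push Not at hKz
    obtain ⟨k₀, hk₀, hk₀1, hk₀z⟩ := hKz
    have hZn : ∀ u ∈ Subgroup.zpowers z, ∀ x ∈ K, x * u * x⁻¹ = u := by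
      intro u hu x hx
      rcases (zp_iff z hzz u).mp hu with e | e
      · rw [e]; group
      · rw [e, hzc x hx, mul_assoc, mul_inv_cancel, mul_one]
    let M : Subgroup W :=
      { carrier := {x | x ∈ K ∧ ∀ k ∈ K, x * k * x⁻¹ * k⁻¹ ∈ Subgroup.zpowers z}
        one_mem' := ⟨K.one_mem, fun k _ => by
          have : (1 : W) * k * 1⁻¹ * k⁻¹ = 1 := by group
          rw [this]
          exact Subgroup.one_mem _⟩
        mul_mem' := by
          rintro a b ⟨ha, ha'⟩ ⟨hb, hb'⟩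
          refine ⟨K.mul_mem ha hb, fun k hk => ?_⟩
          have e : a * b * k * (a * b)⁻¹ * k⁻¹ =
              a * (b * k * b⁻¹ * k⁻¹) * a⁻¹ * (a * k * a⁻¹ * k⁻¹) := by group
          rw [e, hZn _ (hb' k hk) a ha]
          exact Subgroup.mul_mem _ (hb' k hk) (ha' k hk)
        inv_mem' := by
          rintro a ⟨ha, ha'⟩
          refine ⟨K.inv_mem ha, fun k hk => ?_⟩
          have e : a⁻¹ * k * a⁻¹⁻¹ * k⁻¹ = a⁻¹ * (a * k * a⁻¹ * k⁻¹)⁻¹ * a⁻¹⁻¹ := by group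
          rw [e, hZn _ (Subgroup.inv_mem _ (ha' k hk)) a⁻¹ (K.inv_mem ha)]
          exact Subgroup.inv_mem _ (ha' k hk) }
    have hMmem : ∀ x, x ∈ M ↔ x ∈ K ∧ ∀ k ∈ K, x * k * x⁻¹ * k⁻¹ ∈ Subgroup.zpowers z :=
      fun x => Iff.rfl
    have hMinv : ∀ g ∈ E, ∀ x ∈ M, g x ∈ M := by
      intro g hg x hxM
      obtain ⟨hx, hx'⟩ := (hMmem x).mp hxM
      refine (hMmem _).mpr ⟨hKinv g hg x hx, fun k hk => ?_⟩
      have hk' : g⁻¹ k ∈ K := hKinv g⁻¹ (E.inv_mem hg) k hk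
      have h1 := hx' (g⁻¹ k) hk'
      rcases (zp_iff z hzz _).mp h1 with e | e
      · have h2 := congrArg g e
        rw [map_mul, map_mul, map_mul, map_inv, map_inv, MulAut.apply_inv_self, map_one] at h2
        rw [h2]
        exact Subgroup.one_mem _
      · have h2 := congrArg g e
        rw [map_mul, map_mul, map_mul, map_inv, map_inv, MulAut.apply_inv_self, hzfix g hg] at h2
        rw [h2]
        exact Subgroup.mem_zpowers z
    have hex : ∃ c ∈ M, c ≠ 1 ∧ c ≠ z := by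
      let N : Subgroup ↥K := (Subgroup.zpowers z).subgroupOf K
      haveI hN : N.Normal := ⟨fun n hn g => by
        rw [Subgroup.mem_subgroupOf] at hn ⊢
        have := hZn _ hn g g.2
        show (g : W) * n * (g : W)⁻¹ ∈ _
        rw [this]
        exact hn⟩
      haveI : Fact (Nat.Prime 2) := ⟨Nat.prime_two⟩
      have hK2 : IsPGroup 2 (↥K ⧸ N) := (hW.to_subgroup K).to_quotient N
      haveI : Nontrivial (↥K ⧸ N) := by
        refine ⟨⟨QuotientGroup.mk ⟨k₀, hk₀⟩, 1, ?_⟩⟩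
        intro h
        rw [QuotientGroup.eq_one_iff, Subgroup.mem_subgroupOf] at h
        rcases (zp_iff z hzz _).mp h with e | e
        · exact hk₀1 e
        · exact hk₀z e
      haveI := hK2.center_nontrivial
      obtain ⟨c, hc⟩ := exists_ne (1 : Subgroup.center (↥K ⧸ N))
      obtain ⟨c', hc'⟩ := QuotientGroup.mk_surjective (c : ↥K ⧸ N)
      refine ⟨(c' : W), (hMmem _).mpr ⟨c'.2, fun k hk => ?_⟩, ?_, ?_⟩
      · have h1 := (Subgroup.mem_center_iff.mp c.2) (QuotientGroup.mk ⟨k, hk⟩)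
        rw [← hc'] at h1
        have h2 : (QuotientGroup.mk (c' * ⟨k, hk⟩ * c'⁻¹ * ⟨k, hk⟩⁻¹) : ↥K ⧸ N) = 1 := by
          rw [QuotientGroup.mk_mul, QuotientGroup.mk_mul, QuotientGroup.mk_mul,
            QuotientGroup.mk_inv, QuotientGroup.mk_inv, ← h1]
          group
        rw [QuotientGroup.eq_one_iff, Subgroup.mem_subgroupOf] at h2
        exact h2
      · intro e
        apply hc
        apply Subtype.ext
        rw [← hc']
        have : c' = 1 := Subtype.ext e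
        rw [this]
        rfl
      · intro e
        apply hc
        apply Subtype.ext
        rw [← hc']
        show (QuotientGroup.mk c' : ↥K ⧸ N) = 1
        rw [QuotientGroup.eq_one_iff, Subgroup.mem_subgroupOf, e]
        exact Subgroup.mem_zpowers z
    obtain ⟨c, hcM, hc1, hcz⟩ := hex
    have hex2 : ∃ e ∈ E, e ≠ 1 ∧ ∃ x ∈ M, e x = x ∧ x ≠ 1 ∧ x ≠ z := by
      by_contra hcon
      push Not at hcon
      have : M ≤ Subgroup.zpowers z := by
        apply hgen M _ hMinv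
        intro e he he1 k hk hek
        rw [zp_iff z hzz]
        by_cases hk1 : k = 1
        · left; exact hk1
        · right; exact hcon e he he1 k hk hek hk1
      rcases (zp_iff z hzz c).mp (this hcM) with e | e
      exacts [hc1 e, hcz e]
    obtain ⟨ej, hej, hej1, x₀, hx₀M, hx₀f, hx₀1, hx₀z⟩ := hex2
    have hQj : Q8 (Fx ej) z ∧ Fx ej ≤ K := by
      rcases HK ej hej hej1 with hl | hr
      · exfalso
        rcases hl x₀ (Subgroup.mem_inf.mpr ⟨((hMmem _).mp hx₀M).1, hx₀f⟩) with e | e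
        exacts [hx₀1 e, hx₀z e]
      · exact hr
    obtain ⟨hq8, hQK⟩ := hQj
    have hmv : ∃ f ∈ E, ∃ q ∈ Fx ej, f q ≠ q := by
      by_contra hcon
      push Not at hcon
      rcases hCE x₀ (fun g hg => hcon g hg x₀ hx₀f) with e | e
      exacts [hx₀1 e, hx₀z e]
    obtain ⟨f, hf, q₁, hq₁, hfq⟩ := hmv
    have hzM : z ∈ M := (hMmem z).mpr ⟨hzK, fun k hk => by
      have e : z * k * z⁻¹ * k⁻¹ = 1 := by rw [← hzc k hk]; group
      rw [e]
      exact Subgroup.one_mem _⟩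
    have hQM : Fx ej ≤ M :=
      hq8.inv_sub M f (hFx ej hej f hf) (hMinv f hf) (hod f hf) ⟨q₁, hq₁, hfq⟩ hzM x₀ hx₀M hx₀f
        hx₀1 hx₀z
    let K' : Subgroup W := K ⊓ Subgroup.centralizer (Fx ej : Set W)
    have hK'mem : ∀ x, x ∈ K' ↔ x ∈ K ∧ ∀ q ∈ Fx ej, q * x = x * q := by
      intro x
      show x ∈ K ⊓ Subgroup.centralizer (Fx ej : Set W) ↔ _
      rw [Subgroup.mem_inf, Subgroup.mem_centralizer_iff]
      rfl
    have hzK' : z ∈ K' := (hK'mem z).mpr ⟨hzK, fun q hq => hzc q (hQK hq)⟩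
    have hK'inv : ∀ g ∈ E, ∀ k ∈ K', g k ∈ K' := by
      intro g hg x hx
      obtain ⟨hx1, hx2⟩ := (hK'mem x).mp hx
      refine (hK'mem _).mpr ⟨hKinv g hg x hx1, fun q hq => ?_⟩
      have hq' : g⁻¹ q ∈ Fx ej := hFx ej hej g⁻¹ (E.inv_mem hg) q hq
      have h2 := congrArg g (hx2 _ hq')
      rwa [map_mul, map_mul, MulAut.apply_inv_self] at h2
    obtain ⟨xq, hxq, hxq1, hxqz⟩ := hq8.exists_x
    have hK'card : Nat.card K' ≤ n := by
      have hle : K' ≤ K := inf_le_left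
      by_contra hcon
      have : K' = K := Subgroup.eq_of_le_of_card_ge hle (by omega)
      have hx : xq ∈ K' := by rw [this]; exact hQK hxq
      rcases hq8.center xq hxq ((hK'mem xq).mp hx).2 with e | e
      exacts [hxq1 e, hxqz e]
    have hsub : ∀ e ∈ E, e ≠ 1 → Fx e ≠ Fx ej → ∀ x ∈ K ⊓ Fx e, x ∈ K' := by
      intro e he he1 hne x hx
      obtain ⟨hxK, hxe⟩ := Subgroup.mem_inf.mp hx
      have hzi : z⁻¹ = z := inv_eq_of_mul_eq_one_right hzz
      have hw : ∀ q ∈ Fx ej, x * q * x⁻¹ = q ∨ x * q * x⁻¹ = q * z := by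
        intro q hq
        have h1 := ((hMmem _).mp (hQM hq)).2 x hxK
        have e0 : x * q * x⁻¹ = (q * x * q⁻¹ * x⁻¹)⁻¹ * q := by group
        rcases (zp_iff z hzz _).mp h1 with e1 | e1
        · left
          rw [e0, e1, inv_one, one_mul]
        · right
          rw [e0, e1, hzi]
          exact (hzc q (hQK hq)).symm
      obtain ⟨q₀, hq₀, hcq⟩ := hq8.inner x hw
      have hc₀ : q₀⁻¹ * x ∈ K' :=
        (hK'mem _).mpr ⟨K.mul_mem (K.inv_mem (hQK hq₀)) hxK, fun q hq => (hcq q hq).symm⟩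
      have hec₀ : e (q₀⁻¹ * x) ∈ K' := hK'inv e he _ hc₀
      have heq₀ : e q₀ ∈ Fx ej := hFx ej hej e he q₀ hq₀
      have hd : q₀⁻¹ * e q₀ = (q₀⁻¹ * x) * (e (q₀⁻¹ * x))⁻¹ := by
        rw [map_mul, map_inv, (mem_Fx e x).mp hxe]
        group
      have hdK' : q₀⁻¹ * e q₀ ∈ K' := by
        rw [hd]
        exact K'.mul_mem hc₀ (K'.inv_mem hec₀)
      have hdQ : q₀⁻¹ * e q₀ ∈ Fx ej := (Fx ej).mul_mem ((Fx ej).inv_mem hq₀) heq₀
      have hd2 := hq8.center _ hdQ ((hK'mem _).mp hdK').2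
      by_cases hq₀' : q₀ = 1 ∨ q₀ = z
      · have e0 : x = q₀ * (q₀⁻¹ * x) := by group
        rw [e0]
        apply K'.mul_mem _ hc₀
        rcases hq₀' with e1 | e1
        · rw [e1]; exact K'.one_mem
        · rw [e1]; exact hzK'
      · exfalso
        push Not at hq₀'
        have e0 : e q₀ = q₀ * (q₀⁻¹ * e q₀) := by group
        have hfx : e q₀ = q₀ ∨ e q₀ = q₀ * z := by
          rcases hd2 with e1 | e1
          · left
            rw [e1, mul_one] at e0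
            exact e0
          · right
            rw [e1] at e0
            exact e0
        have htriv := hq8.triv_of_fix e (hFx ej hej e he) (hod e he) q₀ hq₀ hq₀'.1 hq₀'.2 hfx
        have hle : Fx ej ≤ Fx e := fun q hq => htriv q hq
        rcases hdich e he he1 with hl | hr
        · rcases hl xq (hle hxq) with e1 | e1
          exacts [hxq1 e1, hxqz e1]
        · apply hne
          symm
          apply Subgroup.eq_of_le_of_card_ge hle
          rw [hr.card, hq8.card]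
    have HK' : ∀ e ∈ E, e ≠ 1 →
        (∀ x ∈ K' ⊓ Fx e, x = 1 ∨ x = z) ∨ (Q8 (Fx e) z ∧ Fx e ≤ K') := by
      intro e he he1
      by_cases heq : Fx e = Fx ej
      · left
        intro x hx
        obtain ⟨hx1, hx2⟩ := Subgroup.mem_inf.mp hx
        rw [heq] at hx2
        exact hq8.center x hx2 ((hK'mem x).mp hx1).2
      · rcases HK e he he1 with hl | ⟨hq, hle⟩
        · left
          intro x hx
          obtain ⟨hx1, hx2⟩ := Subgroup.mem_inf.mp hx
          exact hl x (Subgroup.mem_inf.mpr ⟨((hK'mem x).mp hx1).1, hx2⟩)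
        · right
          exact ⟨hq, fun x hx => hsub e he he1 heq x (Subgroup.mem_inf.mpr ⟨hle hx, hx⟩)⟩
    have IH := ih K' hK'card hzK' hK'inv HK'
    intro e he he1 f' hf' hf'1 hne x hx y hy
    obtain ⟨hxK, hxe⟩ := Subgroup.mem_inf.mp hx
    obtain ⟨hyK, hyf⟩ := Subgroup.mem_inf.mp hy
    by_cases h1 : Fx e = Fx ej
    · have h2 : Fx f' ≠ Fx ej := fun h => hne (h1.trans h.symm)
      have hy' := hsub f' hf' hf'1 h2 y hy
      rw [h1] at hxe
      exact ((hK'mem y).mp hy').2 x hxe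
    · by_cases h2 : Fx f' = Fx ej
      · have hx' := hsub e he he1 h1 x hx
        rw [h2] at hyf
        exact (((hK'mem x).mp hx').2 y hyf).symm
      · exact IH e he he1 f' hf' hf'1 hne x
          (Subgroup.mem_inf.mpr ⟨hsub e he he1 h1 x hx, hxe⟩) y
          (Subgroup.mem_inf.mpr ⟨hsub f' hf' hf'1 h2 y hy, hyf⟩)

end Cfsg.Agent.Lib.helper6.Q8E
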