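import Mathlib
import Cfsg.Agent.Lib.helper6.Q8F
import Cfsg.Agent.Lib.helper20.Extraspecial

set_option autoImplicit false
set_option maxHeartbeats 1600000

namespace Cfsg.Agent.Lib.helper6.Q8E

variable {W : Type*} [Group W] [Finite W]

theorem main (hW : IsPGroup 2 W) {p : ℕ} [Fact p.Prime] (hp : p ≠ 2) (E : Subgroup (MulAut W))
    (hE : IsPGroup p ↥E) (hab : IsMulCommutative ↥E) (hnc : ¬ IsCyclic ↥E)
    (hfix : ∀ e ∈ E, e ≠ 1 → ∀ x y : W, orderOf x = 2 → orderOf y = 2 → e x = x → e y = y →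
      x = y) :
    Nat.card ↥E = 9 ∧ Cfsg.IsExtraspecial 2 W ∧
      (Nat.card W = 2 ^ 5 ∨ Nat.card W = 2 ^ 7 ∨ Nat.card W = 2 ^ 9) ∧
      {x : W | ∀ e ∈ E, e x = x} = (Subgroup.center W : Set W) := by
  classical
  have hpp : p.Prime := Fact.out
  haveI : Fact (Nat.Prime 2) := ⟨Nat.prime_two⟩
  have hcE : ∀ a b : ↥E, a * b = b * a := fun a b => hab.is_comm.comm a b
  have hcomm : ∀ a ∈ E, ∀ b ∈ E, a * b = b * a := fun a ha b hb =>
    congrArg Subtype.val (hcE ⟨a, ha⟩ ⟨b, hb⟩)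
  have hpow : ∀ e ∈ E, ∃ m : ℕ, e ^ (p ^ m) = 1 := by
    intro e he
    obtain ⟨m, hm⟩ := hE ⟨e, he⟩
    exact ⟨m, congrArg Subtype.val hm⟩
  have hod : ∀ e ∈ E, Od e := by
    intro e he
    obtain ⟨m, hm⟩ := hpow e he
    exact ⟨p ^ m, (hpp.odd_of_ne_two hp).pow, hm⟩
  have hcop : (Nat.card ↥E).Coprime (Nat.card W) := by
    obtain ⟨a, ha⟩ := (IsPGroup.iff_card (p := p) (G := ↥E)).mp hE
    obtain ⟨b, hb⟩ := (IsPGroup.iff_card (p := 2) (G := W)).mp hW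
    rw [ha, hb]
    apply Nat.Coprime.pow
    exact (Nat.coprime_primes hpp Nat.prime_two).mpr hp
  have hgen : ∀ K T : Subgroup W, (∀ e ∈ E, ∀ k ∈ K, e k ∈ K) →
      (∀ e ∈ E, e ≠ 1 → ∀ k ∈ K, e k = k → k ∈ T) → K ≤ T :=
    fun K T h1 h2 => gen E hcE hnc hcop K T h1 h2
  have hFx : ∀ e ∈ E, ∀ g ∈ E, ∀ q ∈ Fx e, g q ∈ Fx e := by
    intro e he g hg q hq
    rw [mem_Fx] at hq ⊢
    have := congrArg (fun a : MulAut W => a q) (hcomm e he g hg)
    simp only [MulAut.mul_apply] at this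
    rw [this, hq]
  have hinvE : ∀ e ∈ E, ∀ g ∈ E, ∀ q ∈ Fx e, g⁻¹ q ∈ Fx e :=
    fun e he g hg q hq => hFx e he g⁻¹ (E.inv_mem hg) q hq
  have htop : ∀ e ∈ E, ∀ k ∈ (⊤ : Subgroup W), e k ∈ (⊤ : Subgroup W) :=
    fun _ _ _ _ => Subgroup.mem_top _
  -- step 1
  have hstep1 : ∃ e₀ ∈ E, e₀ ≠ 1 ∧ ∃ f ∈ E, ∃ q ∈ Fx e₀, f q ≠ q := by
    by_contra hcon
    push Not at hcon
    apply hnc
    have : ∀ f : ↥E, f = 1 := by
      intro f
      apply Subtype.ext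
      have h1 : (⊤ : Subgroup W) ≤ Fx (f : MulAut W) := by
        apply hgen ⊤ _ htop
        intro e he he1 k _ hek
        exact hcon e he he1 f f.2 k hek
      ext x
      exact h1 (Subgroup.mem_top x)
    haveI : Subsingleton ↥E := ⟨fun a b => (this a).trans (this b).symm⟩
    exact isCyclic_of_subsingleton
  obtain ⟨e₁, he₁, he₁1, f₀, hf₀, q₀, hq₀, hfq₀⟩ := hstep1
  obtain ⟨z, hQ1⟩ := class_sub hW (Fx e₁)
    (fun x hx y hy h1 h2 => hfix e₁ he₁ he₁1 x y h1 h2 hx hy) f₀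
    (hFx e₁ he₁ f₀ hf₀) (hinvE e₁ he₁ f₀ hf₀) (hod f₀ hf₀) ⟨q₀, hq₀, hfq₀⟩
  have hz1 := hQ1.z1
  have hzz := hQ1.zsq
  have hp3 : p = 3 := by
    obtain ⟨m, hm⟩ := hpow f₀ hf₀
    exact hQ1.three f₀ (hFx e₁ he₁ f₀ hf₀) ⟨q₀, hq₀, hfq₀⟩ p m hpp hp hm
  have hzfix : ∀ g ∈ E, g z = z := fun g hg => hQ1.fix_z g (hFx e₁ he₁ g hg)
  have hCE : ∀ x, (∀ g ∈ E, g x = x) → x = 1 ∨ x = z := by
    intro x hx
    by_contra hcon
    push Not at hcon
    exact (hQ1.moved f₀ (hFx e₁ he₁ f₀ hf₀) (hod f₀ hf₀) ⟨q₀, hq₀, hfq₀⟩ x (hx e₁ he₁)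
      hcon.1 hcon.2).1 (hx f₀ hf₀)
  have hdich : ∀ e ∈ E, e ≠ 1 → (∀ x ∈ Fx e, x = 1 ∨ x = z) ∨ Q8 (Fx e) z := by
    intro e he he1
    by_cases hmv : ∃ f ∈ E, ∃ q ∈ Fx e, f q ≠ q
    · right
      obtain ⟨f, hf, q, hq, hfq⟩ := hmv
      obtain ⟨z', hz'⟩ := class_sub hW (Fx e)
        (fun x hx y hy h1 h2 => hfix e he he1 x y h1 h2 hx hy) f
        (hFx e he f hf) (hinvE e he f hf) (hod f hf) ⟨q, hq, hfq⟩
      have hzm : z ∈ Fx e := hzfix e he
      rcases hz'.sq z hzm with e1 | e1 | e1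
      · exact absurd e1 hz1
      · rw [e1]; exact hz'
      · exfalso
        rw [hzz] at e1
        exact hz'.z1 e1.symm
    · left
      push Not at hmv
      intro x hx
      exact hCE x (fun g hg => hmv g hg x hx)
  have HT : ∀ e ∈ E, e ≠ 1 →
      (∀ x ∈ (⊤ : Subgroup W) ⊓ Fx e, x = 1 ∨ x = z) ∨ (Q8 (Fx e) z ∧ Fx e ≤ ⊤) := by
    intro e he he1
    rcases hdich e he he1 with hl | hr
    · left
      intro x hx
      exact hl x (Subgroup.mem_inf.mp hx).2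
    · right
      exact ⟨hr, le_top⟩
  have hCOMM : ∀ e ∈ E, e ≠ 1 → ∀ f ∈ E, f ≠ 1 → Fx e ≠ Fx f →
      ∀ x ∈ Fx e, ∀ y ∈ Fx f, x * y = y * x := by
    intro e he he1 f hf hf1 hne x hx y hy
    exact comm_ind hW E hod hgen hFx z hz1 hzz hzfix hCE hdich (Nat.card (⊤ : Subgroup W)) ⊤
      le_rfl (Subgroup.mem_top z) htop HT e he he1 f hf hf1 hne x
      (Subgroup.mem_inf.mpr ⟨Subgroup.mem_top x, hx⟩) y
      (Subgroup.mem_inf.mpr ⟨Subgroup.mem_top y, hy⟩)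
  obtain ⟨hcenW, hzcW⟩ := center_K hW E hgen z hz1 hzz ⊤ (Subgroup.mem_top z) htop HT
  -- a second quaternion subgroup
  have hex2 : ∃ e₂ ∈ E, e₂ ≠ 1 ∧ Q8 (Fx e₂) z ∧ Fx e₂ ≠ Fx e₁ := by
    by_contra hcon
    push Not at hcon
    have : (⊤ : Subgroup W) ≤ Fx e₁ := by
      apply hgen ⊤ _ htop
      intro e he he1 k _ hek
      rcases hdich e he he1 with hl | hr
      · rcases hl k hek with e1 | e1
        · rw [e1]; exact (Fx e₁).one_mem
        · rw [e1]; exact hQ1.zmem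
      · have := hcon e he he1 hr
        rw [← this]
        exact hek
    apply he₁1
    ext x
    exact this (Subgroup.mem_top x)
  obtain ⟨e₂, he₂, he₂1, hQ2, hne21⟩ := hex2
  have hcard_eq : ∀ e e' : MulAut W, Q8 (Fx e) z → Q8 (Fx e') z → Fx e ≤ Fx e' →
      Fx e = Fx e' := by
    intro e e' h h' hle
    apply Subgroup.eq_of_le_of_card_ge hle
    rw [h.card, h'.card]
  have hmv21 : ∃ q ∈ Fx e₁, e₂ q ≠ q := by
    by_contra hcon
    push Not at hcon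
    exact hne21 (hcard_eq e₁ e₂ hQ1 hQ2 (fun q hq => hcon q hq)).symm
  have hmv12 : ∃ q ∈ Fx e₂, e₁ q ≠ q := by
    by_contra hcon
    push Not at hcon
    exact hne21 (hcard_eq e₂ e₁ hQ2 hQ1 (fun q hq => hcon q hq))
  have hoz : orderOf z = 2 := orderOf_eq_prime (by rw [pow_two, hzz]) hz1
  have htwo : ∀ h ∈ E, (∀ q ∈ Fx e₁, h q = q) → (∀ q ∈ Fx e₂, h q = q) → h = 1 := by
    intro h hh h1 h2
    by_contra hne
    obtain ⟨x, hx, hx1, hxz⟩ := hQ1.exists_x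
    have hex : ∃ y ∈ Fx e₂, y ∉ Fx e₁ := by
      by_contra hcon
      push Not at hcon
      exact hne21 (hcard_eq e₂ e₁ hQ2 hQ1 hcon)
    obtain ⟨y, hy, hy1⟩ := hex
    have hy_1 : y ≠ 1 := fun e => hy1 (e ▸ (Fx e₁).one_mem)
    have hy_z : y ≠ z := fun e => hy1 (e ▸ hQ1.zmem)
    have hxx : x * x = z := by
      rcases hQ1.sq x hx with e | e | e
      exacts [absurd e hx1, absurd e hxz, e]
    have hyy : y * y = z := by
      rcases hQ2.sq y hy with e | e | e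
      exacts [absurd e hy_1, absurd e hy_z, e]
    have hxy : x * y = y * x := hCOMM e₁ he₁ he₁1 e₂ he₂ he₂1 (Ne.symm hne21) x hx y hy
    have ht2 : (x * y) * (x * y) = 1 := by
      have a1 : (x * y) * (x * y) = x * (y * x) * y := by group
      rw [a1, ← hxy]
      have a2 : x * (x * y) * y = (x * x) * (y * y) := by group
      rw [a2, hxx, hyy, hzz]
    have ht1 : x * y ≠ 1 := by
      intro e
      apply hy1
      rw [eq_inv_of_mul_eq_one_right e]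
      exact (Fx e₁).inv_mem hx
    have htz : x * y ≠ z := by
      intro e
      apply hy1
      have : y = x⁻¹ * z := by rw [← e]; group
      rw [this]
      exact (Fx e₁).mul_mem ((Fx e₁).inv_mem hx) hQ1.zmem
    have ho : orderOf (x * y) = 2 := orderOf_eq_prime (by rw [pow_two, ht2]) ht1
    exact htz (hfix h hh hne (x * y) z ho hoz (by rw [map_mul, h1 x hx, h2 y hy]) (hzfix h hh))
  have hrep : ∀ g ∈ E, ∃ i < 3, ∃ j < 3, g = e₁ ^ j * e₂ ^ i := by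
    intro g hg
    obtain ⟨i, hi, hgi⟩ := hQ1.pow_of_comm e₂ g (hFx e₁ he₁ e₂ he₂) (hinvE e₁ he₁ e₂ he₂)
      (hFx e₁ he₁ g hg) (hcomm e₂ he₂ g hg) (hod e₂ he₂) (hod g hg) hmv21
    have hg' : g * (e₂ ^ i)⁻¹ ∈ E := E.mul_mem hg (E.inv_mem (E.pow_mem he₂ i))
    obtain ⟨j, hj, hgj⟩ := hQ2.pow_of_comm e₁ (g * (e₂ ^ i)⁻¹) (hFx e₂ he₂ e₁ he₁)
      (hinvE e₂ he₂ e₁ he₁) (hFx e₂ he₂ _ hg') (hcomm e₁ he₁ _ hg') (hod e₁ he₁) (hod _ hg')
      hmv12
    refine ⟨i, hi, j, hj, ?_⟩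
    have hh : g * (e₂ ^ i)⁻¹ * (e₁ ^ j)⁻¹ ∈ E :=
      E.mul_mem hg' (E.inv_mem (E.pow_mem he₁ j))
    have h1 : g * (e₂ ^ i)⁻¹ * (e₁ ^ j)⁻¹ = 1 := by
      apply htwo _ hh
      · intro q hq
        rw [MulAut.mul_apply, MulAut.mul_apply]
        have a1 : (e₁ ^ j)⁻¹ q = q := inv_fix _ q (pow_fix e₁ q hq j)
        rw [a1]
        have a2 : (e₂ ^ i)⁻¹ q ∈ Fx e₁ :=
          hFx e₁ he₁ _ (E.inv_mem (E.pow_mem he₂ i)) q hq
        rw [hgi _ a2, MulAut.apply_inv_self]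
      · intro q hq
        rw [MulAut.mul_apply]
        have a1 : (e₁ ^ j)⁻¹ q ∈ Fx e₂ :=
          hFx e₂ he₂ _ (E.inv_mem (E.pow_mem he₁ j)) q hq
        rw [hgj _ a1, MulAut.apply_inv_self]
    have e0 : g = (g * (e₂ ^ i)⁻¹ * (e₁ ^ j)⁻¹) * (e₁ ^ j * e₂ ^ i) := by group
    rw [e0, h1, one_mul]
  have hE9 : Nat.card ↥E = 9 := by
    apply le_antisymm
    · let F : Fin 3 × Fin 3 → ↥E := fun ij =>
        ⟨e₁ ^ (ij.1 : ℕ) * e₂ ^ (ij.2 : ℕ), E.mul_mem (E.pow_mem he₁ _) (E.pow_mem he₂ _)⟩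
      have hsurj : Function.Surjective F := by
        intro g
        obtain ⟨i, hi, j, hj, e⟩ := hrep g g.2
        exact ⟨(⟨j, hj⟩, ⟨i, hi⟩), Subtype.ext e.symm⟩
      have := Nat.card_le_card_of_surjective F hsurj
      simpa using this
    · obtain ⟨a, ha⟩ := (IsPGroup.iff_card (p := p) (G := ↥E)).mp hE
      rw [hp3] at ha
      rcases a with _ | _ | a
      · exfalso
        apply hnc
        haveI : Subsingleton ↥E := (Nat.card_eq_one_iff_unique.mp (by rw [ha]; simp)).1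
        exact isCyclic_of_subsingleton
      · exfalso
        apply hnc
        haveI : Fact (Nat.Prime 3) := ⟨Nat.prime_three⟩
        exact isCyclic_of_prime_card (p := 3) (by rw [ha]; norm_num)
      · rw [ha]
        have h1 : 3 ^ (a + 1 + 1) = 9 * 3 ^ a := by ring
        have h2 : 0 < 3 ^ a := by positivity
        omega
  -- the centre
  have hcen_eq : Subgroup.center W = Subgroup.zpowers z := by
    apply le_antisymm
    · intro x hx
      rw [zp_iff z hzz]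
      apply hcenW x (Subgroup.mem_top x)
      intro k _
      exact (Subgroup.mem_center_iff.mp hx k)
    · rw [Subgroup.zpowers_le, Subgroup.mem_center_iff]
      intro k
      exact hzcW k (Subgroup.mem_top k)
  have hZcard : Nat.card (Subgroup.center W) = 2 := by
    rw [hcen_eq, Nat.card_zpowers, hoz]
  have hmk1 : ∀ x : W, (x = 1 ∨ x = z) → (QuotientGroup.mk x : W ⧸ Subgroup.center W) = 1 := by
    intro x hx
    rw [QuotientGroup.eq_one_iff, hcen_eq, zp_iff z hzz]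
    exact hx
  have hA1 : ∀ e ∈ E, e ≠ 1 → ∀ q ∈ Fx e, ∀ w : W,
      (QuotientGroup.mk q : W ⧸ Subgroup.center W) * QuotientGroup.mk w =
        QuotientGroup.mk w * QuotientGroup.mk q := by
    intro e he he1 q hq w
    have hkey : ∀ f ∈ E, f ≠ 1 → ∀ k ∈ Fx f,
        (QuotientGroup.mk q : W ⧸ Subgroup.center W) * QuotientGroup.mk k =
          QuotientGroup.mk k * QuotientGroup.mk q := by
      intro f hf hf1 k hfk
      by_cases hne : Fx e = Fx f
      · rcases hdich e he he1 with hl | hr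
        · rw [hmk1 q (hl q hq), one_mul, mul_one]
        · have hk' : k ∈ Fx e := by rw [hne]; exact hfk
          rcases hr.comm_or q k hq hk' with e1 | e1
          · rw [← QuotientGroup.mk_mul, ← QuotientGroup.mk_mul, e1]
          · rw [← QuotientGroup.mk_mul, ← QuotientGroup.mk_mul, e1,
              QuotientGroup.mk_mul (Subgroup.center W) (q * k) z, hmk1 z (Or.inr rfl), mul_one]
      · rw [← QuotientGroup.mk_mul, ← QuotientGroup.mk_mul, hCOMM e he he1 f hf hf1 hne q hq k hfk]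
    have : (⊤ : Subgroup W) ≤ (Subgroup.centralizer
        {(QuotientGroup.mk q : W ⧸ Subgroup.center W)}).comap
        (QuotientGroup.mk' (Subgroup.center W)) := by
      apply hgen ⊤ _ htop
      intro f hf hf1 k _ hfk
      rw [Subgroup.mem_comap, Subgroup.mem_centralizer_singleton_iff]
      first
        | exact hkey f hf hf1 k hfk
        | exact (hkey f hf hf1 k hfk).symm
    have h1 := this (Subgroup.mem_top w)
    rw [Subgroup.mem_comap, Subgroup.mem_centralizer_singleton_iff] at h1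
    first
      | exact h1
      | exact h1.symm
  have hA : ∀ a b : W ⧸ Subgroup.center W, a * b = b * a := by
    have : (⊤ : Subgroup W) ≤ (Subgroup.center (W ⧸ Subgroup.center W)).comap
        (QuotientGroup.mk' (Subgroup.center W)) := by
      apply hgen ⊤ _ htop
      intro f hf hf1 k _ hfk
      rw [Subgroup.mem_comap, Subgroup.mem_center_iff]
      intro g
      obtain ⟨w, rfl⟩ := QuotientGroup.mk_surjective g
      exact (hA1 f hf hf1 k hfk w).symm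
    intro a b
    obtain ⟨w, rfl⟩ := QuotientGroup.mk_surjective b
    have h1 := this (Subgroup.mem_top w)
    rw [Subgroup.mem_comap, Subgroup.mem_center_iff] at h1
    exact h1 a
  have hB : ∀ a : W ⧸ Subgroup.center W, a * a = 1 := by
    let S2 : Subgroup (W ⧸ Subgroup.center W) :=
      { carrier := {a | a * a = 1}
        one_mem' := mul_one 1
        mul_mem' := by
          intro a b (ha : a * a = 1) (hb : b * b = 1)
          show a * b * (a * b) = 1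
          have e1 : a * b * (a * b) = a * (b * a) * b := by group
          rw [e1, hA b a]
          have e2 : a * (a * b) * b = (a * a) * (b * b) := by group
          rw [e2, ha, hb, one_mul]
        inv_mem' := by
          intro a (ha : a * a = 1)
          show a⁻¹ * a⁻¹ = 1
          have e1 : a⁻¹ * a⁻¹ = (a * a)⁻¹ := by group
          rw [e1, ha, inv_one] }
    have : (⊤ : Subgroup W) ≤ S2.comap (QuotientGroup.mk' (Subgroup.center W)) := by
      apply hgen ⊤ _ htop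
      intro f hf hf1 k _ hfk
      show (QuotientGroup.mk k : W ⧸ Subgroup.center W) * QuotientGroup.mk k = 1
      rw [← QuotientGroup.mk_mul]
      apply hmk1
      rcases hdich f hf hf1 with hl | hr
      · rcases hl k hfk with e1 | e1
        · left; rw [e1, mul_one]
        · left; rw [e1, hzz]
      · rcases hr.sq k hfk with e1 | e1 | e1
        · left; rw [e1, mul_one]
        · left; rw [e1, hzz]
        · right; exact e1
    intro a
    obtain ⟨w, rfl⟩ := QuotientGroup.mk_surjective a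
    exact this (Subgroup.mem_top w)
  have hES : Cfsg.IsExtraspecial 2 W := by
    apply Cfsg.Agent.Lib.helper20.Extraspecial.extraspecial_of hW hZcard
    · rw [commutator_def, Subgroup.commutator_le]
      intro g₁ _ g₂ _
      rw [← QuotientGroup.eq_one_iff, commutatorElement_def, QuotientGroup.mk_mul,
        QuotientGroup.mk_mul, QuotientGroup.mk_mul, QuotientGroup.mk_inv, QuotientGroup.mk_inv,
        hA (↑g₁) (↑g₂)]
      group
    · obtain ⟨x, hx, hx1, hxz⟩ := hQ1.exists_x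
      obtain ⟨y, hy, hy1, hyz, hyx, hyxz⟩ := hQ1.exists_y x
      refine ⟨x, y, fun e => ?_⟩
      have h1 := hQ1.nc x hx y hy hx1 hxz hy1 hyz hyx hyxz
      rw [← e] at h1
      exact hz1 (mul_left_cancel (h1.symm.trans (mul_one _).symm))
    · intro x
      rw [← QuotientGroup.eq_one_iff, QuotientGroup.mk_pow, pow_two]
      exact hB _
  -- the order of W
  have hcube : ∀ g ∈ E, g ^ 3 = 1 := by
    intro g hg
    have h9 : (⟨g, hg⟩ : ↥E) ^ 9 = 1 := by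
      rw [← hE9]
      exact pow_card_eq_one'
    have hd : orderOf (⟨g, hg⟩ : ↥E) ∣ 3 ^ 2 := orderOf_dvd_of_pow_eq_one h9
    obtain ⟨k, hk, hk'⟩ := (Nat.dvd_prime_pow Nat.prime_three).mp hd
    have hk3 : k ≠ 2 := by
      rintro rfl
      apply hnc
      exact isCyclic_of_orderOf_eq_card ⟨g, hg⟩ (by rw [hk', hE9]; norm_num)
    have h3 : (⟨g, hg⟩ : ↥E) ^ 3 = 1 := by
      interval_cases k
      · rw [pow_zero, orderOf_eq_one_iff] at hk'
        rw [hk', one_pow]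
      · rw [pow_one] at hk'
        rw [← hk']
        exact pow_orderOf_eq_one _
      · exact absurd rfl hk3
    exact congrArg Subtype.val h3
  have hFxsq : ∀ g ∈ E, Fx (g ^ 2) = Fx g := by
    intro g hg
    ext x
    rw [mem_Fx, mem_Fx]
    constructor
    · intro h
      have h3 : (g ^ 3) x = x := by rw [hcube g hg]; rfl
      exact fix_of_coprime g x 2 3 (by norm_num) h h3
    · intro h
      exact pow_fix g x h 2
  have hFxinv : ∀ g : MulAut W, Fx g⁻¹ = Fx g := by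
    intro g
    ext x
    rw [mem_Fx, mem_Fx]
    constructor
    · intro h
      have := inv_fix g⁻¹ x h
      rwa [inv_inv] at this
    · intro h
      exact inv_fix g x h
  have he₃ : e₁ * e₂ ∈ E := E.mul_mem he₁ he₂
  have he₄ : e₁ * e₂ ^ 2 ∈ E := E.mul_mem he₁ (E.pow_mem he₂ 2)
  have he₃1 : e₁ * e₂ ≠ 1 := by
    intro e
    apply hne21
    rw [eq_inv_of_mul_eq_one_right e, hFxinv]
  have he₄1 : e₁ * e₂ ^ 2 ≠ 1 := by
    intro e
    apply hne21
    rw [← hFxsq e₂ he₂, eq_inv_of_mul_eq_one_right e, hFxinv]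
  have h31 : Fx (e₁ * e₂) ≠ Fx e₁ := by
    intro h
    obtain ⟨q, hq, hqn⟩ := hmv21
    apply hqn
    have h1 : (e₁ * e₂) q = q := by
      have : q ∈ Fx (e₁ * e₂) := by rw [h]; exact hq
      exact this
    rw [MulAut.mul_apply] at h1
    have h2 : e₁ (e₂ q) = e₂ q := hFx e₁ he₁ e₂ he₂ q hq
    rw [← h2, h1]
  have h32 : Fx (e₁ * e₂) ≠ Fx e₂ := by
    intro h
    obtain ⟨q, hq, hqn⟩ := hmv12
    apply hqn
    have h1 : (e₁ * e₂) q = q := by
      have : q ∈ Fx (e₁ * e₂) := by rw [h]; exact hq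
      exact this
    rw [MulAut.mul_apply, (mem_Fx e₂ q).mp hq] at h1
    exact h1
  have h41 : Fx (e₁ * e₂ ^ 2) ≠ Fx e₁ := by
    intro h
    obtain ⟨q, hq, hqn⟩ := hmv21
    apply hqn
    have h1 : (e₁ * e₂ ^ 2) q = q := by
      have : q ∈ Fx (e₁ * e₂ ^ 2) := by rw [h]; exact hq
      exact this
    rw [MulAut.mul_apply] at h1
    have h2 : e₁ ((e₂ ^ 2) q) = (e₂ ^ 2) q := hFx e₁ he₁ _ (E.pow_mem he₂ 2) q hq
    have h3 : q ∈ Fx (e₂ ^ 2) := by
      rw [mem_Fx, ← h2, h1]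
    rw [hFxsq e₂ he₂] at h3
    exact h3
  have h42 : Fx (e₁ * e₂ ^ 2) ≠ Fx e₂ := by
    intro h
    obtain ⟨q, hq, hqn⟩ := hmv12
    apply hqn
    have h1 : (e₁ * e₂ ^ 2) q = q := by
      have : q ∈ Fx (e₁ * e₂ ^ 2) := by rw [h]; exact hq
      exact this
    rw [MulAut.mul_apply, pow_fix e₂ q hq 2] at h1
    exact h1
  have hc12 : ∀ x ∈ Fx e₁, ∀ y ∈ Fx e₂, x * y = y * x :=
    hCOMM e₁ he₁ he₁1 e₂ he₂ he₂1 (Ne.symm hne21)
  have hc13 : ∀ x ∈ Fx e₁, ∀ y ∈ Fx (e₁ * e₂), x * y = y * x :=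
    hCOMM e₁ he₁ he₁1 _ he₃ he₃1 (Ne.symm h31)
  have hc23 : ∀ x ∈ Fx e₂, ∀ y ∈ Fx (e₁ * e₂), x * y = y * x :=
    hCOMM e₂ he₂ he₂1 _ he₃ he₃1 (Ne.symm h32)
  have hc14 : ∀ x ∈ Fx e₁, ∀ y ∈ Fx (e₁ * e₂ ^ 2), x * y = y * x :=
    hCOMM e₁ he₁ he₁1 _ he₄ he₄1 (Ne.symm h41)
  have hc24 : ∀ x ∈ Fx e₂, ∀ y ∈ Fx (e₁ * e₂ ^ 2), x * y = y * x :=
    hCOMM e₂ he₂ he₂1 _ he₄ he₄1 (Ne.symm h42)
  have hc34 : ∀ x ∈ Fx (e₁ * e₂), ∀ y ∈ Fx (e₁ * e₂ ^ 2), x * y = y * x := by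
    by_cases h : Fx (e₁ * e₂) = Fx (e₁ * e₂ ^ 2)
    · intro x hx y _
      have hx4 : (e₁ * e₂ ^ 2) x = x := by
        have : x ∈ Fx (e₁ * e₂ ^ 2) := by rw [← h]; exact hx
        exact this
      have hx3 : (e₁ * e₂) x = x := hx
      rw [MulAut.mul_apply] at hx3 hx4
      rw [pow_two, MulAut.mul_apply] at hx4
      have h1 : e₂ (e₂ x) = e₂ x := e₁.injective (hx4.trans hx3.symm)
      have h2 : e₂ x = x := e₂.injective h1
      have h3 : e₁ x = x := by rw [h2] at hx3; exact hx3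
      have hall : ∀ g ∈ E, g x = x := by
        intro g hg
        obtain ⟨i, _, j, _, rfl⟩ := hrep g hg
        rw [MulAut.mul_apply, pow_fix e₂ x h2 i, pow_fix e₁ x h3 j]
      rcases hCE x hall with e | e
      · rw [e, one_mul, mul_one]
      · rw [e]
        exact (hzcW y (Subgroup.mem_top y)).symm
    · exact hCOMM _ he₃ he₃1 _ he₄ he₄1 h
  have hWtop : (⊤ : Subgroup W) ≤ Fx e₁ ⊔ Fx e₂ ⊔ Fx (e₁ * e₂) ⊔ Fx (e₁ * e₂ ^ 2) := by
    have m1 : Fx e₁ ≤ Fx e₁ ⊔ Fx e₂ ⊔ Fx (e₁ * e₂) ⊔ Fx (e₁ * e₂ ^ 2) :=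
      le_sup_of_le_left (le_sup_of_le_left le_sup_left)
    have m2 : Fx e₂ ≤ Fx e₁ ⊔ Fx e₂ ⊔ Fx (e₁ * e₂) ⊔ Fx (e₁ * e₂ ^ 2) :=
      le_sup_of_le_left (le_sup_of_le_left le_sup_right)
    have m3 : Fx (e₁ * e₂) ≤ Fx e₁ ⊔ Fx e₂ ⊔ Fx (e₁ * e₂) ⊔ Fx (e₁ * e₂ ^ 2) :=
      le_sup_of_le_left le_sup_right
    have m4 : Fx (e₁ * e₂ ^ 2) ≤ Fx e₁ ⊔ Fx e₂ ⊔ Fx (e₁ * e₂) ⊔ Fx (e₁ * e₂ ^ 2) :=
      le_sup_right
    have hc : Commute e₁ e₂ := hcomm e₁ he₁ e₂ he₂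
    have hall : ∀ i < 3, ∀ j < 3, e₁ ^ j * e₂ ^ i ≠ 1 →
        Fx (e₁ ^ j * e₂ ^ i) ≤ Fx e₁ ⊔ Fx e₂ ⊔ Fx (e₁ * e₂) ⊔ Fx (e₁ * e₂ ^ 2) := by
      intro i hi j hj hne
      interval_cases j <;> interval_cases i
      · exact absurd (by simp) hne
      · have e : e₁ ^ 0 * e₂ ^ 1 = e₂ := by simp
        rw [e]; exact m2
      · have e : e₁ ^ 0 * e₂ ^ 2 = e₂ ^ 2 := by simp
        rw [e, hFxsq e₂ he₂]; exact m2
      · have e : e₁ ^ 1 * e₂ ^ 0 = e₁ := by simp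
        rw [e]; exact m1
      · have e : e₁ ^ 1 * e₂ ^ 1 = e₁ * e₂ := by simp
        rw [e]; exact m3
      · have e : e₁ ^ 1 * e₂ ^ 2 = e₁ * e₂ ^ 2 := by simp
        rw [e]; exact m4
      · have e : e₁ ^ 2 * e₂ ^ 0 = e₁ ^ 2 := by simp
        rw [e, hFxsq e₁ he₁]; exact m1
      · have e : e₁ ^ 2 * e₂ ^ 1 = (e₁ * e₂ ^ 2) ^ 2 := by
          rw [(hc.pow_right 2).mul_pow, ← pow_mul, pow_one]
          have : e₂ ^ (2 * 2) = e₂ ^ 3 * e₂ := by rw [← pow_succ]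
          rw [this, hcube e₂ he₂, one_mul]
        rw [e, hFxsq _ he₄]; exact m4
      · have e : e₁ ^ 2 * e₂ ^ 2 = (e₁ * e₂) ^ 2 := by rw [hc.mul_pow]
        rw [e, hFxsq _ he₃]; exact m3
    apply hgen ⊤ _ htop
    intro e he he1 k _ hek
    obtain ⟨i, hi, j, hj, rfl⟩ := hrep e he
    exact hall i hi j hj he1 hek
  have hWcard : Nat.card W = 2 ^ 5 ∨ Nat.card W = 2 ^ 7 ∨ Nat.card W = 2 ^ 9 := by
    have c12 : Nat.card ↥(Fx e₁ ⊔ Fx e₂) = 32 := by
      rw [join_big (Fx e₁) (Fx e₂) z hz1 hzz hQ1.zmem hc12 hQ2, hQ1.card]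
    have hz12 : z ∈ Fx e₁ ⊔ Fx e₂ := Subgroup.mem_sup_left hQ1.zmem
    have hz123 : z ∈ Fx e₁ ⊔ Fx e₂ ⊔ Fx (e₁ * e₂) := Subgroup.mem_sup_left hz12
    have cen3 : Fx e₁ ⊔ Fx e₂ ≤ Subgroup.centralizer (Fx (e₁ * e₂) : Set W) :=
      sup_le (fun x hx => Subgroup.mem_centralizer_iff.mpr (fun q hq => (hc13 x hx q hq).symm))
        (fun x hx => Subgroup.mem_centralizer_iff.mpr (fun q hq => (hc23 x hx q hq).symm))
    have cen4 : Fx e₁ ⊔ Fx e₂ ⊔ Fx (e₁ * e₂) ≤ Subgroup.centralizer (Fx (e₁ * e₂ ^ 2) : Set W) :=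
      sup_le (sup_le
        (fun x hx => Subgroup.mem_centralizer_iff.mpr (fun q hq => (hc14 x hx q hq).symm))
        (fun x hx => Subgroup.mem_centralizer_iff.mpr (fun q hq => (hc24 x hx q hq).symm)))
        (fun x hx => Subgroup.mem_centralizer_iff.mpr (fun q hq => (hc34 x hx q hq).symm))
    have s3 := join_step (Fx e₁ ⊔ Fx e₂) (Fx (e₁ * e₂)) z hz1 hzz hz12
      (fun h hh q hq => ((Subgroup.mem_centralizer_iff.mp (cen3 hh)) q hq).symm)
      (hdich _ he₃ he₃1)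
    have s4 := join_step (Fx e₁ ⊔ Fx e₂ ⊔ Fx (e₁ * e₂)) (Fx (e₁ * e₂ ^ 2)) z hz1 hzz hz123
      (fun h hh q hq => ((Subgroup.mem_centralizer_iff.mp (cen4 hh)) q hq).symm)
      (hdich _ he₄ he₄1)
    have htopeq : Fx e₁ ⊔ Fx e₂ ⊔ Fx (e₁ * e₂) ⊔ Fx (e₁ * e₂ ^ 2) = ⊤ := top_le_iff.mp hWtop
    rw [htopeq, Subgroup.card_top] at s4
    rw [c12] at s3
    rcases s3 with a3 | a3 <;> rcases s4 with a4 | a4 <;> rw [a3] at a4
    · left; rw [a4]; norm_num
    · right; left; rw [a4]; norm_num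
    · right; left; rw [a4]; norm_num
    · right; right; rw [a4]; norm_num
  refine ⟨hE9, hES, hWcard, ?_⟩
  ext x
  constructor
  · intro hx
    show x ∈ Subgroup.center W
    rw [hcen_eq, zp_iff z hzz]
    exact hCE x hx
  · intro hx
    have hx' : x ∈ Subgroup.center W := hx
    rw [hcen_eq, zp_iff z hzz] at hx'
    intro e he
    rcases hx' with e1 | e1
    · rw [e1]; exact map_one e
    · rw [e1]; exact hzfix e he

end Cfsg.Agent.Lib.helper6.Q8E
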